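import Cfsg.Agent.Lib.Char.ItoRank.Nested

/-!
# Conjugate rank two: no nested centralizers
-/

set_option autoImplicit false
set_option linter.style.haveILetI false
set_option linter.unusedSectionVars false

namespace Cfsg.Agent.Char.ItoRank

open Cfsg.Agent.Perm.CoprimeSizes Cfsg.Agent.Perm.CoprimeFour Cfsg.Agent.Char.ThreeIndex

universe u

variable {G : Type u} [Group G] [Finite G] {n₁ n₂ : ℕ}

/-- No proper inclusion between centralizers of noncentral elements. -/
def Flat (G : Type u) [Group G] : Prop := ∀ a b : G, a ∉ Subgroup.center G → cent b ≤ cent a → cent b = cent a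

theorem Flat.cent_part (hF : Flat G) {v w : G} (hwv : w ∈ Subgroup.zpowers v) (hwz : w ∉ Subgroup.center G) :
    cent v = cent w :=
  hF w v hwz (cent_le_of_mem_zpowers hwv)

theorem Flat.coprime_le (hF : Flat G) {x v : G} (hxz : x ∉ Subgroup.center G) (hv : v ∈ cent x)
    (ho : (orderOf x).Coprime (orderOf v)) : cent x ≤ cent v := by
  have e := cls_mul_of_comm hv ho
  have h1 := hF x (x * v) hxz (e ▸ inf_le_left)
  rw [← h1, e]
  exact inf_le_right

/-- A prime power element whose centralizer meets no further prime gives solvability. -/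
theorem Rank.solvable_of_small (h : Rank G n₁ n₂) (hF : Flat G) {p : ℕ} (hp : p.Prime) {x : G}
    (hxz : x ∉ Subgroup.center G) (hno : ∀ r : ℕ, r.Prime → r ≠ p → ¬ Has r (cent x)) : Group.IsSolvable G := by
  by_contra hns
  obtain ⟨s, hs, hsp, -, w, -, hw, hwz⟩ := exists_prime_ne hns p p
  refine hns (solvable_of_uniform hp (n := if cls x = n₂ then n₁ else n₂)
    ⟨w, hw.coprime_prime hs hp hsp, hwz⟩ fun v hvz hvp => ?_)
  obtain ⟨r, u, hr, hu, huv, huz⟩ := exists_part hvz
  have hrp := prime_ne_of_coprime hr hvp hu huv huz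
  haveI := Fact.mk hr
  show (cent v).index = _
  rw [hF.cent_part huv huz]
  have hne : cls u ≠ cls x := fun e => hno r hr hrp
    (Has.of_fac (center_le_cent u) ⟨u, self_mem_cent u, hu, huz⟩ (fac_eq_of_cls_eq e r).le)
  rcases h.cases hxz with e | e <;> rcases h.cases huz with e' | e' <;>
    first
    | (exfalso; exact hne (e'.trans e.symm))
    | (rw [if_pos e]; exact e')
    | (rw [if_neg (by rw [e]; exact h.lt.ne')]; exact e')

theorem exists_y {p : ℕ} {x : G} (hx : Prim p x) (hxz : x ∉ Subgroup.center G) :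
    ∃ y ∈ Subgroup.zpowers x, y ∉ Subgroup.center G ∧ y ^ p ∈ Subgroup.center G := by
  classical
  have hex : ∃ j, x ^ p ^ j ∈ Subgroup.center G := by
    obtain ⟨k, hk⟩ := hx
    exact ⟨k, by rw [← hk, pow_orderOf_eq_one]; exact one_mem _⟩
  have hj := Nat.find_spec hex
  have h0 : Nat.find hex ≠ 0 := fun e => hxz (by rw [e, pow_zero, pow_one] at hj; exact hj)
  obtain ⟨i, hi⟩ := Nat.exists_eq_succ_of_ne_zero h0
  refine ⟨x ^ p ^ i, Subgroup.npow_mem_zpowers x _, Nat.find_min hex (by omega), ?_⟩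
  rw [← pow_mul, ← pow_succ]
  rw [hi] at hj
  exact hj

theorem exists_nonconj_count (u1 u2 : G) (h1 : u1 ∉ Subgroup.center G) (h2 : u2 ∉ Subgroup.center G)
    (hcov : ∀ g : G, g ≠ 1 → g ∈ conjU {x : G | x ∈ centPart (cent u1) ∧ x ≠ 1} ∨
      g ∈ conjU {x : G | x ∈ centPart (cent u2) ∧ x ≠ 1}) :
    ∃ u ∈ ({u1, u2} : Set G), cent u ≤ Subgroup.centralizer (cent u : Set G) ∧
      Subgroup.normalizer (cent u : Set G) ≤ cent u := by
  by_contra hno
  push Not at hno
  have e1 := two_mul_conjU_le (cent u1) fun hh => hno u1 (Set.mem_insert _ _) hh.1 hh.2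
  have e2 := two_mul_conjU_le (cent u2) fun hh => hno u2 (Or.inr rfl) hh.1 hh.2
  have hsub : ({1} : Set G)ᶜ ⊆ conjU {x : G | x ∈ centPart (cent u1) ∧ x ≠ 1} ∪
      conjU {x : G | x ∈ centPart (cent u2) ∧ x ≠ 1} := fun g hg => hcov g hg
  have e3 := (Set.ncard_le_ncard hsub (Set.toFinite _)).trans (Set.ncard_union_le _ _)
  rw [Set.ncard_compl, Set.ncard_singleton] at e3
  have i1 : (cent u1).index ≠ 1 := cls_ne_one h1
  have i2 : (cent u2).index ≠ 1 := cls_ne_one h2
  have p1 := cls_pos u1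
  have p2 := cls_pos u2
  simp only [cls] at p1 p2
  omega

/-- The remaining flat case. -/
theorem Rank.solvable_of_flat (h : Rank G n₁ n₂) (hex₁ : ∃ x : G, cls x = n₁) (hex₂ : ∃ x : G, cls x = n₂)
    (hF : Flat G) : Group.IsSolvable G := by
  by_cases hsmall : ∃ (p : ℕ) (x : G), p.Prime ∧ Prim p x ∧ x ∉ Subgroup.center G ∧
      ∀ r : ℕ, r.Prime → r ≠ p → ¬ Has r (cent x)
  · obtain ⟨p, x, hp, -, hxz, hno⟩ := hsmall
    exact h.solvable_of_small hF hp hxz hno
  push Not at hsmall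
  have hle : ∀ ⦃p t : ℕ⦄ ⦃x w : G⦄, p.Prime → t.Prime → Prim p x → x ∉ Subgroup.center G → Prim t w →
      w ∈ cent x → cent x ≤ cent w := by
    intro p t x w hp ht hx hxz hw hwx
    by_cases htp : t = p
    · obtain ⟨r, hr, hrp, a, hax, har, haz⟩ := hsmall p x hp hx hxz
      have hax' : cent x = cent a := hF a x haz (hF.coprime_le hxz hax (Prim.coprime hp hr (Ne.symm hrp) hx har))
      rw [hax'] at hwx ⊢
      exact hF.coprime_le haz hwx (Prim.coprime hr ht (by omega) har hw)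
    · exact hF.coprime_le hxz hwx (Prim.coprime hp ht (Ne.symm htp) hx hw)
  have hS : Sys G (fun _ => True) := fun r s x y hr hs _ _ hx hy hxz hyz hyx =>
    (hF y x hyz (hle hr hs hx hxz hy hyx)).symm
  have hab : ∀ ⦃p : ℕ⦄ ⦃x : G⦄, p.Prime → Prim p x → x ∉ Subgroup.center G → ∀ c ∈ cent x, cent x ≤ cent c :=
    fun p x hp hx hxz c hc y hy => mem_cent_comm.1
      (mem_of_primary_le (D := cent x) (K := cent y) (fun t z ht hz hzC =>
        mem_cent_comm.1 (hle hp ht hx hxz hz hzC hy)) hc)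
  have hfull : ∀ ⦃p : ℕ⦄ ⦃x : G⦄, p.Prime → Prim p x → x ∉ Subgroup.center G →
      ∃ r : ℕ, r.Prime ∧ Has r (cent x) ∧ ¬ r ∣ cls x := by
    intro p x hp hx hxz
    obtain ⟨r, hr, hrp, hH⟩ := hsmall p x hp hx hxz
    have hHp : Has p (cent x) := ⟨x, self_mem_cent x, hx, hxz⟩
    rcases hS.exists_full hp trivial hx hxz hp hr (Ne.symm hrp) trivial trivial hHp hH with e | e
    · exact ⟨p, hp, hHp, e⟩
    · exact ⟨r, hr, hH, e⟩
  have hpart : ∀ n : ℕ, n ≠ 1 → (∃ g : G, cls g = n) →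
      ∃ (p : ℕ) (u : G), p.Prime ∧ Prim p u ∧ u ∉ Subgroup.center G ∧ cls u = n := by
    rintro n hn ⟨g, rfl⟩
    obtain ⟨p, u, hp, hu, hug, huz⟩ := exists_part fun e => hn (cls_eq_one_iff.2 e)
    exact ⟨p, u, hp, hu, huz, (congrArg Subgroup.index (hF.cent_part hug huz)).symm⟩
  have hlt := h.lt
  have hone := h.one_lt
  obtain ⟨p1, u1, hp1, hu1, hu1z, hn1⟩ := hpart n₁ (by omega) hex₁
  obtain ⟨p2, u2, hp2, hu2, hu2z, hn2⟩ := hpart n₂ (by omega) hex₂
  have hconj : ∀ g : G, g ∉ Subgroup.center G →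
      (∃ k, cent g = cent (k * u1 * k⁻¹)) ∨ ∃ k, cent g = cent (k * u2 * k⁻¹) := by
    intro g hg
    obtain ⟨r, w, hr, hw, hwg, hwz⟩ := exists_part hg
    rw [hF.cent_part hwg hwz]
    rcases h.cases hwz with e | e
    · obtain ⟨r2, hr2, hH, hd⟩ := hfull hp2 hu2 hu2z
      haveI := Fact.mk hr2
      exact Or.inr (hS.cent_conj_of_has hp2 trivial hu2 hu2z hr2 trivial hd hr trivial hw hwz
        (hH.of_fac (center_le_cent u2) (fac_eq_of_cls_eq (hn2.trans e.symm) r2).le))
    · obtain ⟨r1, hr1, hH, hd⟩ := hfull hp1 hu1 hu1z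
      haveI := Fact.mk hr1
      exact Or.inl (hS.cent_conj_of_has hp1 trivial hu1 hu1z hr1 trivial hd hr trivial hw hwz
        (hH.of_fac (center_le_cent u1) (fac_eq_of_cls_eq (hn1.trans e.symm) r1).le))
  have hmem : ∀ ⦃p : ℕ⦄ ⦃u : G⦄ (g k : G), p.Prime → Prim p u → u ∉ Subgroup.center G → g ≠ 1 →
      cent g = cent (k * u * k⁻¹) → g ∈ conjU {x : G | x ∈ centPart (cent u) ∧ x ≠ 1} := by
    intro p u g k hp hu huz hg1 e
    have h1 : k⁻¹ * g * k ∈ cent u := cent_conj_mem.1 (e ▸ self_mem_cent g)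
    refine ⟨k, k⁻¹ * g * k, ⟨mem_centPart.2 ⟨h1, fun y hy => mem_cent.1 (hab hp hu huz _ h1 hy)⟩,
      fun e1 => hg1 ?_⟩, by group⟩
    calc g = k * (k⁻¹ * g * k) * k⁻¹ := by group
      _ = 1 := by rw [e1]; group
  obtain ⟨u, hu', huab, huN⟩ := exists_nonconj_count u1 u2 hu1z hu2z (fun g hg => by
    by_cases hgz : g ∈ Subgroup.center G
    · refine Or.inl ⟨1, g, ⟨mem_centPart.2 ⟨center_le_cent u1 hgz, fun y _ => Subgroup.mem_center_iff.1 hgz y⟩,
        hg⟩, by group⟩
    · rcases hconj g hgz with ⟨k, e⟩ | ⟨k, e⟩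
      · exact Or.inl (hmem g k hp1 hu1 hu1z hg e)
      · exact Or.inr (hmem g k hp2 hu2 hu2z hg e))
  obtain ⟨p, hp, hu, huz⟩ : ∃ p : ℕ, p.Prime ∧ Prim p u ∧ u ∉ Subgroup.center G := by
    rcases hu' with rfl | hu'
    · exact ⟨p1, hp1, hu1, hu1z⟩
    · rw [Set.mem_singleton_iff.1 hu']; exact ⟨p2, hp2, hu2, hu2z⟩
  have hnd : ∀ s : ℕ, s.Prime → Has s (cent u) → ¬ s ∣ Nat.card (commutator G) := by
    intro s hs hH
    haveI := Fact.mk hs
    have hd : ¬ s ∣ cls u := fun hd => by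
      obtain ⟨g, hg, hgC, -⟩ := hS.exists_witness hp trivial hu huz trivial hd hH
      exact hgC (huN hg)
    obtain ⟨W, hW⟩ := Perm.NilpotentHall.exists_sylow_le hd
    obtain ⟨w, hw, hws, hwz⟩ := hH
    have hWw : (W : Subgroup G) ≤ cent w := hW.trans (hab hp hu huz w hw)
    refine not_dvd_commutator W hW (fun c hc => ?_) huab huN
    rw [← hS hp hs trivial trivial hu hws huz hwz hw]
    exact mem_cent.2 (Subgroup.mem_centralizer_iff.1 hc w (ThreeIndex.mem_sylow_of_commute W hws hWw)).symm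
  haveI := Fact.mk hp
  obtain ⟨y, hyu, hyz, hyp⟩ := exists_y hu huz
  have hyD : cent y = cent u := (hF y u hyz (cent_le_of_mem_zpowers hyu)).symm
  have hy : Prim p y := by
    obtain ⟨k, hk⟩ := hu
    obtain ⟨j, -, hj⟩ := (Nat.dvd_prime_pow hp).1 (hk ▸ orderOf_dvd_of_mem_zpowers hyu)
    exact ⟨j, hj⟩
  set Q := G ⧸ Subgroup.center G
  set π := QuotientGroup.mk' (Subgroup.center G) with hπ
  have hyo : orderOf (π y) = p := orderOf_eq_prime (by rw [← map_pow]; exact (QuotientGroup.eq_one_iff _).2 hyp)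
    fun e => hyz ((QuotientGroup.eq_one_iff _).1 e)
  have hcomm : commutator Q = (commutator G).map π := by
    rw [commutator_def, commutator_def, Subgroup.map_commutator,
      Subgroup.map_top_of_surjective π (QuotientGroup.mk'_surjective _)]
  have hnil : Group.IsNilpotent (commutator Q) := by
    refine nilpotent_of_fpf (commutator Q) hp hyo fun k hk hky => ?_
    rw [hcomm] at hk
    obtain ⟨k, hk', rfl⟩ := hk
    refine (QuotientGroup.eq_one_iff _).2 ?_
    set ζ := k * y * k⁻¹ * y⁻¹ with hζ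
    have hζz : ζ ∈ Subgroup.center G := (QuotientGroup.eq_one_iff _).1 (show π ζ = 1 by
      rw [hζ, map_mul, map_mul, map_mul, map_inv, map_inv, hky]; group)
    have hζG : ζ ∈ commutator G := by
      rw [hζ, commutator_def]
      exact Subgroup.commutator_mem_commutator (Subgroup.mem_top k) (Subgroup.mem_top y)
    have hζp : Prim p ζ := by
      have hc : Commute (k * y * k⁻¹) y := by
        have e : k * y * k⁻¹ = ζ * y := by rw [hζ]; group
        rw [e]
        exact (show Commute ζ y from (Subgroup.mem_center_iff.1 hζz y).symm).mul_left (Commute.refl y)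
      refine prim_mul hc.inv_right (Prim.map hp (MulAut.conj k).toMonoidHom hy) ?_
      obtain ⟨j, hj⟩ := hy
      exact ⟨j, by rw [orderOf_inv]; exact hj⟩
    have hζ1 : ζ = 1 := eq_one_of_prim_coprime hζp (Nat.Coprime.coprime_dvd_left
      ((Subgroup.orderOf_mk ζ hζG).symm.dvd.trans (orderOf_dvd_natCard _))
      (hp.coprime_iff_not_dvd.2 (hnd p hp ⟨u, self_mem_cent u, hu, huz⟩)).symm)
    have hkD : k ∈ cent u := by
      rw [← hyD, mem_cent]
      calc k * y = ζ * (y * k) := by rw [hζ]; group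
        _ = y * k := by rw [hζ1, one_mul]
    refine mem_of_primary fun s z hs hz hzk => ?_
    by_contra hzz
    have hzG : z ∈ commutator G := Subgroup.zpowers_le.2 hk' hzk
    refine hzz ?_
    rw [eq_one_of_prim_coprime hz (Nat.Coprime.coprime_dvd_left
      ((Subgroup.orderOf_mk z hzG).symm.dvd.trans (orderOf_dvd_natCard _))
      (hs.coprime_iff_not_dvd.2 (hnd s hs ⟨z, Subgroup.zpowers_le.2 hkD hzk, hz, hzz⟩)).symm)]
    exact one_mem _
  haveI := hnil
  exact Solv.isSolvable_of_normal_quotient (Subgroup.center G)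
    (Group.isSolvable_of_comm fun a b => Subtype.ext (Subgroup.mem_center_iff.1 b.2 (a : G)))
    (solvable_of_commutator (inferInstance : Group.IsSolvable (commutator Q)))

end Cfsg.Agent.Char.ItoRank
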