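import Cfsg.Agent.Lib.Char.ItoRank.Sys

/-!
# Conjugate rank two: nested centralizers
-/

set_option autoImplicit false
set_option linter.style.haveILetI false
set_option linter.unusedSectionVars false

namespace Cfsg.Agent.Char.ItoRank

open Cfsg.Agent.Perm.CoprimeSizes Cfsg.Agent.Perm.CoprimeFour Cfsg.Agent.Char.ThreeIndex

universe u

variable {G : Type u} [Group G] [Finite G]

/-- Exactly two sizes `n₂ < n₁` besides `1`. -/
structure Rank (G : Type u) [Group G] (n₁ n₂ : ℕ) : Prop where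
  lt : n₂ < n₁
  one_lt : 1 < n₂
  sizes : ∀ x : G, cls x = 1 ∨ cls x = n₂ ∨ cls x = n₁

variable {n₁ n₂ : ℕ}

theorem Rank.cases (h : Rank G n₁ n₂) {x : G} (hx : x ∉ Subgroup.center G) : cls x = n₂ ∨ cls x = n₁ :=
  (h.sizes x).resolve_left (cls_ne_one hx)

theorem Rank.small (h : Rank G n₁ n₂) {x : G} (hx : x ∉ Subgroup.center G) (hd : cls x ∣ n₂) : cls x = n₂ :=
  (h.cases hx).resolve_right fun e => by
    have := Nat.le_of_dvd (by have := h.one_lt; omega) (e ▸ hd)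
    have := h.lt
    omega

theorem Rank.big (h : Rank G n₁ n₂) {x : G} (hd : n₁ ∣ cls x) : cls x = n₁ := by
  rcases h.sizes x with e | e | e
  · have := Nat.le_of_dvd (by omega) (e ▸ hd)
    have := h.lt; have := h.one_lt
    omega
  · have := Nat.le_of_dvd (by have := h.one_lt; omega) (e ▸ hd)
    have := h.lt
    omega
  · exact e

/-- The nested situation: `n₁ = n₂ m`. -/
structure Nest (G : Type u) [Group G] (n₁ n₂ m : ℕ) : Prop extends Rank G n₁ n₂ where
  mul : n₁ = n₂ * m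

variable {m : ℕ}

theorem Nest.n₂_dvd (h : Nest G n₁ n₂ m) {x : G} (hx : x ∉ Subgroup.center G) : n₂ ∣ cls x := by
  rcases h.cases hx with e | e <;> rw [e]
  exact ⟨m, h.mul⟩

theorem Nest.one_lt_m (h : Nest G n₁ n₂ m) : 1 < m := by
  by_contra hm
  have := h.lt
  have := h.mul
  rcases Nat.lt_or_eq_of_le (not_lt.1 hm) with e | e
  · rw [Nat.lt_one_iff.1 e, mul_zero] at this; omega
  · rw [e, mul_one] at this; omega

theorem Nest.has (h : Nest G n₁ n₂ m) {x : G} (hx : cls x = n₂) {r : ℕ} (hr : r.Prime)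
    (hH : Has r (⊤ : Subgroup G)) : Has r (cent x) := by
  haveI := Fact.mk hr
  obtain ⟨w, -, hwp, hwz⟩ := hH
  refine Has.of_fac (C := cent w) (center_le_cent w) ⟨w, self_mem_cent w, hwp, hwz⟩ ?_
  exact (Nat.factorization_le_iff_dvd Nat.card_pos.ne' Nat.card_pos.ne').2
    (card_cent_dvd (hx ▸ h.n₂_dvd hwz)) r

theorem Nest.card_eq (h : Nest G n₁ n₂ m) {x y : G} (hx : cls x = n₂) (hy : cls y = n₁) :
    Nat.card (cent x) = m * Nat.card (cent y) := by
  refine Nat.eq_of_mul_eq_mul_right (cls_pos x) ?_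
  have h1 : Nat.card (cent x) * cls x = Nat.card (cent y) * cls y := by
    rw [(cent x).card_mul_index, (cent y).card_mul_index]
  rw [h1, hy, hx, h.mul]; ring

theorem Nest.fac_eq (h : Nest G n₁ n₂ m) {p0 : ℕ} (hm : ∀ r : ℕ, r.Prime → r ∣ m → r = p0) {x y : G}
    (hx : cls x = n₂) (hy : cls y = n₁) {r : ℕ} (hr : r ≠ p0) :
    (Nat.card (cent x)).factorization r = (Nat.card (cent y)).factorization r := by
  rw [h.card_eq hx hy, Nat.factorization_mul (by have := h.one_lt_m; omega) Nat.card_pos.ne', Finsupp.add_apply]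
  by_cases hrp : r.Prime
  · rw [Nat.factorization_eq_zero_of_not_dvd fun hd => hr (hm r hrp hd), zero_add]
  · rw [Nat.factorization_eq_zero_of_not_prime _ hrp, zero_add]

theorem Nest.relIndex_cases (h : Nest G n₁ n₂ m) {x v : G} (hx : cls x = n₂) (hv : v ∈ cent x)
    (ho : (orderOf x).Coprime (orderOf v)) : cent x ≤ cent v ∨ (cent v).relIndex (cent x) = m := by
  have hxz : x ∉ Subgroup.center G := fun e => by
    have := h.one_lt; rw [cls_eq_one_iff.2 e] at hx; omega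
  have e := cls_mul_of_comm hv ho
  have h1 : (cent v).relIndex (cent x) * n₂ = cls (x * v) := by
    show _ = (cent (x * v)).index
    rw [e, ← hx, ← Subgroup.inf_relIndex_left, Subgroup.relIndex_mul_index inf_le_left]
  have hz : x * v ∉ Subgroup.center G := notMem_center_of_dvd hxz (cls_dvd (e ▸ inf_le_left))
  rcases h.cases hz with e' | e'
  · refine Or.inl (Subgroup.relIndex_eq_one.1 ?_)
    exact Nat.eq_of_mul_eq_mul_right (lt_trans one_pos h.one_lt) (by rw [h1, e', one_mul])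
  · exact Or.inr (Nat.eq_of_mul_eq_mul_right (lt_trans one_pos h.one_lt) (by rw [h1, e', h.mul, mul_comm]))

/-- The two possibilities for the centralizer of a primary element of the small size. -/
theorem Nest.size_cases (h : Nest G n₁ n₂ m) {p : ℕ} (hp : p.Prime) {x : G} (hx : Prim p x) (hxn : cls x = n₂)
    (hv : ∃ v ∈ cent x, (orderOf v).Coprime p ∧ ¬ cent x ≤ cent v) :
    (∃ k, m ∣ p ^ k) ∨ ∃ q : ℕ, (∀ r : ℕ, r.Prime → r ∣ m → r = p ∨ r = q) ∧
      ∀ (r : ℕ) (a : G), r.Prime → r ≠ p → r ≠ q → a ∈ cent x → Prim r a → cent x ≤ cent a := by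
  haveI := Fact.mk hp
  set C := cent x with hC
  obtain ⟨v, hvC, hvp, hvn⟩ := hv
  have hcen : ∀ w : C, w ∈ Subgroup.center C ↔ C ≤ cent (w : G) := fun w => by
    rw [Subgroup.mem_center_iff]
    exact ⟨fun hw a ha => mem_cent.2 (congrArg Subtype.val (hw ⟨a, ha⟩)),
      fun hw a => Subtype.ext (mem_cent.1 (hw a.2))⟩
  have hcl : ∀ w : C, (orderOf w).Coprime p → cls w = 1 ∨ cls w = m := fun w hw => by
    rw [cls_subgroup]
    rcases h.relIndex_cases hxn w.2 (coprime_prim (by rwa [Subgroup.orderOf_coe]) hx).symm with e | e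
    · exact Or.inl (Subgroup.relIndex_eq_one.2 e)
    · exact Or.inr e
  have hvm : cls (⟨v, hvC⟩ : C) = m := (hcl ⟨v, hvC⟩ (by rwa [Subgroup.orderOf_mk])).resolve_left fun e =>
    hvn ((hcen _).1 (cls_eq_one_iff.1 e))
  have hr : (Set.range fun w : {w : C // (orderOf w).Coprime p} => (ConjClasses.mk (w : C)).carrier.ncard) = {1, m} := by
    ext k
    simp only [Set.mem_range, Set.mem_insert_iff, Set.mem_singleton_iff, Solv.class_ncard]
    constructor
    · rintro ⟨w, rfl⟩; exact hcl w w.2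
    · rintro (rfl | rfl)
      · exact ⟨⟨1, by simp⟩, cls_eq_one_iff.2 (one_mem _)⟩
      · exact ⟨⟨⟨v, hvC⟩, by rwa [Subgroup.orderOf_mk]⟩, hvm⟩
  rcases Solv.TwoSizeRegular.main hp (by rw [hr]; exact Set.ncard_pair h.one_lt_m.ne) with
    ⟨H, hab, hpH, k, hk⟩ | ⟨q, hq, P, Q, A, -, hA, hcard, hN, hinf, htop⟩
  · refine Or.inl ⟨k, ?_⟩
    by_cases hHc : ∀ w ∈ H, w ∈ Subgroup.center C
    · haveI : H.Normal := ⟨fun w hw g => by
        rwa [Subgroup.mem_center_iff.1 (hHc w hw) g, mul_inv_cancel_right]⟩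
      refine absurd ((hcen _).1 (hHc ⟨v, hvC⟩ ?_)) hvn
      refine (QuotientGroup.eq_one_iff _).1 (orderOf_eq_one_iff.1 (Nat.eq_one_of_dvd_coprimes
        (Nat.Coprime.pow_right k hvp) ((orderOf_map_dvd (QuotientGroup.mk' H) _).trans
          (Subgroup.orderOf_mk v hvC).dvd) ?_))
      rw [← hk]
      exact orderOf_dvd_natCard _
    push Not at hHc
    obtain ⟨w, hw, hwc⟩ := hHc
    have hwp : (orderOf w).Coprime p := Nat.Coprime.coprime_dvd_left
      ((Subgroup.orderOf_mk w hw).symm.dvd.trans (orderOf_dvd_natCard _)) (hp.coprime_iff_not_dvd.2 hpH).symm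
    rw [← hk, ← (hcl w hwp).resolve_left fun e => hwc (cls_eq_one_iff.1 e)]
    exact Subgroup.index_dvd_of_le fun a ha => mem_cent.2
      (congrArg Subtype.val (hab.is_comm.comm ⟨a, ha⟩ ⟨w, hw⟩))
  · set K := (P : Subgroup C) ⊔ (Q : Subgroup C) with hK
    haveI := hN
    haveI hAn : A.Normal := ⟨fun w hw g => by
      rwa [Subgroup.mem_center_iff.1 (hA hw) g, mul_inv_cancel_right]⟩
    have hAi : A.index ∣ Nat.card P * Nat.card Q := by
      rw [← hcard, ← Subgroup.relIndex_top_right, ← htop, Subgroup.relIndex_sup_right]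
      exact Subgroup.relIndex_dvd_card A K
    obtain ⟨i, hi⟩ := IsPGroup.iff_card.1 P.isPGroup'
    obtain ⟨j, hj⟩ := IsPGroup.iff_card.1 Q.isPGroup'
    rw [hi, hj] at hAi
    refine Or.inr ⟨q, fun r hr hd => ?_, fun r a hr hrp hrq haC har => ?_⟩
    · have h1 : m ∣ p ^ i * q ^ j := by
        rw [← hvm]
        refine (Subgroup.index_dvd_of_le ?_).trans hAi
        exact fun a ha => mem_cent.2 (Subgroup.mem_center_iff.1 (hA ha) _).symm
      rcases (Nat.Prime.dvd_mul hr).1 (hd.trans h1) with h2 | h2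
      · exact Or.inl ((Nat.prime_dvd_prime_iff_eq hr hp).1 (hr.dvd_of_dvd_pow h2))
      · exact Or.inr ((Nat.prime_dvd_prime_iff_eq hr hq.out).1 (hr.dvd_of_dvd_pow h2))
    · refine (hcen ⟨a, haC⟩).1 (hA ((QuotientGroup.eq_one_iff _).1 (eq_one_of_prim_coprime
        (Prim.map hr (QuotientGroup.mk' A) (Prim.mk haC har)) ?_)))
      refine Nat.Coprime.coprime_dvd_left ((orderOf_dvd_natCard _).trans hAi) ?_
      exact Nat.Coprime.mul_left (Nat.Coprime.pow_left i ((Nat.coprime_primes hp hr).2 (Ne.symm hrp)))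
        (Nat.Coprime.pow_left j ((Nat.coprime_primes hq.out hr).2 (Ne.symm hrq)))

theorem Nest.exists_third (h : Nest G n₁ n₂ m) (hns : ¬ Group.IsSolvable G) {x : G} (hx : cls x = n₂) (p q : ℕ) :
    ∃ (r : ℕ) (a : G), r.Prime ∧ r ≠ p ∧ r ≠ q ∧ a ∈ cent x ∧ Prim r a ∧ a ∉ Subgroup.center G := by
  obtain ⟨r, hr, hrp, hrq, hH⟩ := exists_prime_ne hns p q
  obtain ⟨a, ha, hap, haz⟩ := h.has hx hr hH
  exact ⟨r, a, hr, hrp, hrq, ha, hap, haz⟩

theorem Nest.cent_eq_of_le (h : Nest G n₁ n₂ m) {x a : G} (hx : cls x = n₂) (ha : a ∉ Subgroup.center G)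
    (hle : cent x ≤ cent a) : cls a = n₂ ∧ cent a = cent x := by
  have h1 := h.small ha (hx ▸ cls_dvd hle)
  exact ⟨h1, Perm.CoprimeSizes.cent_eq_of_le hle (h1.trans hx.symm)⟩

theorem Nest.m_primePow (h : Nest G n₁ n₂ m) (hns : ¬ Group.IsSolvable G) {a b : G}
    (ha : cls a = n₂) (hlt : cent b < cent a) : ∃ p0 : ℕ, p0.Prime ∧ ∀ r : ℕ, r.Prime → r ∣ m → r = p0 := by
  have haz : a ∉ Subgroup.center G := fun e => by
    have := h.one_lt; rw [cls_eq_one_iff.2 e] at ha; omega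
  obtain ⟨p, x, hp, hx, hxa, hxz⟩ := exists_part haz
  obtain ⟨hxn, hxC⟩ := h.cent_eq_of_le ha hxz (cent_le_of_mem_zpowers hxa)
  obtain ⟨p, x, s, v, hp, hx, hxn, hs, hsp, hv, hvC, hvn⟩ : ∃ (p : ℕ) (x : G) (s : ℕ) (v : G), p.Prime ∧
      Prim p x ∧ cls x = n₂ ∧ s.Prime ∧ s ≠ p ∧ Prim s v ∧ v ∈ cent x ∧ ¬ cent x ≤ cent v := by
    obtain ⟨s, v, hs, hv, hvC, hvn⟩ : ∃ (s : ℕ) (v : G), s.Prime ∧ Prim s v ∧ v ∈ cent x ∧ ¬ cent x ≤ cent v := by
      by_contra hno
      push Not at hno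
      have hab : ∀ c ∈ cent x, cent x ≤ cent c := fun c hc y hy =>
        mem_cent_comm.1 (mem_of_primary_le (D := cent x) (K := cent y)
          (fun t z ht hz hzC => mem_cent_comm.1 (hno t z ht hz hzC hy)) hc)
      exact hlt.not_ge (hxC ▸ hab b (hxC.symm ▸ hlt.le (self_mem_cent b)))
    by_cases hsp : s = p
    · obtain ⟨r, c, hr, hrp, -, hcC, hc, hcz⟩ := h.exists_third hns hxn p p
      by_cases hce : cent x ≤ cent c
      · obtain ⟨hcn, hcC'⟩ := h.cent_eq_of_le hxn hcz hce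
        exact ⟨r, c, s, v, hr, hc, hcn, hs, by omega, hv, hcC'.symm ▸ hvC, by rwa [hcC']⟩
      · exact ⟨p, x, r, c, hp, hx, hxn, hr, hrp, hc, hcC, hce⟩
    · exact ⟨p, x, s, v, hp, hx, hxn, hs, hsp, hv, hvC, hvn⟩
  rcases h.size_cases hp hx hxn ⟨v, hvC, hv.coprime_prime hs hp hsp, hvn⟩ with ⟨k, hk⟩ | ⟨q, hq, hc⟩
  · exact ⟨p, hp, fun r hr hd => (Nat.prime_dvd_prime_iff_eq hr hp).1 (hr.dvd_of_dvd_pow (hd.trans hk))⟩
  obtain ⟨r, c, hr, hrp, hrq, hcC, hcr, hcz⟩ := h.exists_third hns hxn p q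
  obtain ⟨hcn, hcC'⟩ := h.cent_eq_of_le hxn hcz (hc r c hr hrp hrq hcC hcr)
  have hsr : s ≠ r := fun e => hvn (hc s v hs hsp (e ▸ hrq) hvC hv)
  obtain ⟨l, hl, hld⟩ := Nat.exists_prime_and_dvd h.one_lt_m.ne'
  rcases h.size_cases hr hcr hcn ⟨v, hcC'.symm ▸ hvC, hv.coprime_prime hs hr hsr, by rwa [hcC']⟩ with
    ⟨k, hk⟩ | ⟨q', hq', -⟩
  · have : l = r := (Nat.prime_dvd_prime_iff_eq hl hr).1 (hl.dvd_of_dvd_pow (hld.trans hk))
    rcases hq l hl hld with e | e <;> omega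
  · refine ⟨l, hl, fun t ht htd => ?_⟩
    rcases hq l hl hld with e | e <;> rcases hq t ht htd with e' | e' <;> rcases hq' l hl hld with e'' | e'' <;>
      rcases hq' t ht htd with e3 | e3 <;> omega

section
variable (h : Nest G n₁ n₂ m) (hns : ¬ Group.IsSolvable G) {p0 : ℕ} (hp0 : p0.Prime)
  (hm : ∀ r : ℕ, r.Prime → r ∣ m → r = p0)
include h hns hp0 hm

theorem Nest.small_central_ne {s t : ℕ} {y w : G} (hs : s.Prime) (ht : t.Prime) (hsp : s ≠ p0) (htp : t ≠ p0)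
    (hts : t ≠ s) (hy : Prim s y) (hyn : cls y = n₂) (hw : w ∈ cent y) (hwt : Prim t w) : cent y ≤ cent w := by
  by_contra hn
  obtain ⟨l, hl, hld⟩ := Nat.exists_prime_and_dvd h.one_lt_m.ne'
  obtain rfl := hm l hl hld
  rcases h.size_cases hs hy hyn ⟨w, hw, hwt.coprime_prime ht hs hts, hn⟩ with ⟨k, hk⟩ | ⟨q, hq, hc⟩
  · exact hsp ((Nat.prime_dvd_prime_iff_eq hl hs).1 (hl.dvd_of_dvd_pow (hld.trans hk))).symm
  · exact hn (hc t w ht hts (fun e => by rcases hq l hl hld with e' | e' <;> omega) hw hwt)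

theorem Nest.small_central {s t : ℕ} {y w : G} (hs : s.Prime) (ht : t.Prime) (hsp : s ≠ p0) (htp : t ≠ p0)
    (hy : Prim s y) (hyn : cls y = n₂) (hw : w ∈ cent y) (hwt : Prim t w) : cent y ≤ cent w := by
  by_cases hts : t = s
  · obtain ⟨r, a, hr, hrs, hrp, haC, ha, haz⟩ := h.exists_third hns hyn s p0
    obtain ⟨han, haC'⟩ := h.cent_eq_of_le hyn haz (h.small_central_ne hns hp0 hm hs hr hsp hrp hrs hy hyn haC ha)
    rw [← haC'] at hw ⊢
    exact h.small_central_ne hns hp0 hm hr ht hrp htp (by omega) ha han hw hwt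
  · exact h.small_central_ne hns hp0 hm hs ht hsp htp hts hy hyn hw hwt

theorem Nest.has_all {x : G} (hx : x ∉ Subgroup.center G) {a : G} (ha : cls a = n₂) {r : ℕ} (hr : r.Prime)
    (hrp : r ≠ p0) (hH : Has r (⊤ : Subgroup G)) : Has r (cent x) := by
  haveI := Fact.mk hr
  rcases h.cases hx with e | e
  · exact h.has e hr hH
  · exact (h.has ha hr hH).of_fac (center_le_cent a) (h.fac_eq hm ha e hrp).le

theorem Nest.sys {a : G} (ha : cls a = n₂) : Sys G (fun r => r ≠ p0) := by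
  have key : ∀ ⦃s t : ℕ⦄ ⦃u w : G⦄, s.Prime → t.Prime → s ≠ p0 → t ≠ p0 → t ≠ s → Prim s u → Prim t w →
      cls u = n₁ → w ∉ Subgroup.center G → w ∈ cent u → cent w = cent u := by
    intro s t u w hs ht hsp htp hts hu hw hun hwz hwu
    have e := cls_mul_of_comm hwu (Prim.coprime hs ht (Ne.symm hts) hu hw)
    have h1 : cent (u * w) = cent u := (Perm.CoprimeSizes.cent_eq_of_le (e ▸ inf_le_left)
      (hun.trans (h.big (hun ▸ cls_dvd (e ▸ inf_le_left))).symm)).symm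
    have hle : cent u ≤ cent w := by rw [← h1, e]; exact inf_le_right
    rcases h.cases hwz with hwn | hwn
    · exact le_antisymm (h.small_central hns hp0 hm ht hs htp hsp hw hwn (mem_cent_comm.1 hwu) hu) hle
    · exact Perm.CoprimeSizes.cent_eq_of_le hle (hwn.trans hun.symm)
  intro r s x y hr hs hrp hsp hx hy hxz hyz hyx
  rcases h.cases hxz with hxn | hxn
  · exact (h.cent_eq_of_le hxn hyz (h.small_central hns hp0 hm hr hs hrp hsp hx hxn hyx hy)).2
  by_cases hsr : s = r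
  · obtain ⟨t, ht, htr, htp, hH⟩ := exists_prime_ne hns r p0
    obtain ⟨c, hc, hct, hcz⟩ := h.has_all hns hp0 hm hxz ha ht htp hH
    have e := key hr ht hrp htp htr hx hct hxn hcz hc
    rw [← e] at hyx ⊢
    exact key ht hs htp hsp (by omega) hct hy (by show (cent c).index = n₁; rw [e]; exact hxn) hyz hyx
  · exact key hr hs hrp hsp hsr hx hy hxn hyz hyx

theorem Nest.solvable_aux {a : G} (ha : cls a = n₂) : False := by
  have hS := h.sys hns hp0 hm ha
  obtain ⟨s, hs, hsp, -, hHs⟩ := exists_prime_ne hns p0 p0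
  obtain ⟨t, ht, htp, hts, hHt⟩ := exists_prime_ne hns p0 s
  obtain ⟨n, hn⟩ := hS.uniform (fun r x _ _ _ hxz t' ht' htp' hH' => h.has_all hns hp0 hm hxz ha ht' htp' hH')
    hs ht (Ne.symm hts) hsp htp hHs hHt
  refine hns (solvable_of_uniform hp0 (n := n) ?_ fun v hvz hvp => ?_)
  · obtain ⟨w, -, hw, hwz⟩ := hHs
    exact ⟨w, hw.coprime_prime hs hp0 hsp, hwz⟩
  · obtain ⟨r, w, hr, hw, hwv, hwz⟩ := exists_part hvz
    have hpar : ∀ (r : ℕ) (w : G), r.Prime → Prim r w → w ∈ Subgroup.zpowers v →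
        w ∉ Subgroup.center G → r ≠ p0 := fun r w hr hw hwv hwz => prime_ne_of_coprime hr hvp hw hwv hwz
    show (cent v).index = n
    rw [hS.cent_part hr hw hwv hwz hpar]
    exact hn hr (hpar r w hr hw hwv hwz) hw hwz

end

/-- Nested centralizers give solvability. -/
theorem Rank.solvable_of_nested (h : Rank G n₁ n₂) {a b : G} (ha : a ∉ Subgroup.center G)
    (hlt : cent b < cent a) : Group.IsSolvable G := by
  by_contra hns
  have hd : cls a ∣ cls b := cls_dvd hlt.le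
  have hne : cls a ≠ cls b := fun e => hlt.ne (Perm.CoprimeSizes.cent_eq_of_le hlt.le e).symm
  have hbz : b ∉ Subgroup.center G := notMem_center_of_dvd ha hd
  have hle := Nat.le_of_dvd (cls_pos b) hd
  have hlt' := h.lt
  obtain ⟨ha2, hb1⟩ : cls a = n₂ ∧ cls b = n₁ := by
    rcases h.cases ha with e | e <;> rcases h.cases hbz with e' | e' <;> omega
  obtain ⟨m, hm⟩ := hd
  have hN : Nest G n₁ n₂ m := { h with mul := by rw [← ha2, ← hb1]; exact hm }
  obtain ⟨p0, hp0, hpm⟩ := hN.m_primePow hns ha2 hlt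
  exact hN.solvable_aux hns hp0 hpm ha2

end Cfsg.Agent.Char.ItoRank
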