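import Cfsg.Agent.Lib.Char.ItoRank.Parts
import Cfsg.Agent.Lib.Solv.FourPrimes.Basic
import Cfsg.Agent.S0205

/-!
# Conjugate rank two: normalizers of a centralizer with two partial primes

If `C` is the centralizer of each noncentral `s`- and `t`-element of its centre then `N(C)/C` cannot
have elements of both orders `s` and `t`: the norms of the action on the centre are trivial.
-/

set_option autoImplicit false
set_option linter.style.haveILetI false
set_option linter.unusedSectionVars false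

namespace Cfsg.Agent.Char.ItoRank

open Cfsg.Agent.Perm.CoprimeSizes Cfsg.Agent.Perm.CoprimeFour Cfsg.Agent.Char.ThreeIndex

universe u

variable {G : Type u} [Group G] [Finite G]

theorem mem_centPart {C : Subgroup G} {v : G} : v ∈ centPart C ↔ v ∈ C ∧ ∀ y ∈ C, y * v = v * y :=
  Subgroup.mem_inf.trans (and_congr_right fun _ => Subgroup.mem_centralizer_iff)

theorem prim_mul {q : ℕ} [Fact q.Prime] {a b : G} (h : Commute a b) (ha : Prim q a) (hb : Prim q b) :
    Prim q (a * b) := by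
  obtain ⟨i, hi⟩ := ha
  obtain ⟨j, hj⟩ := hb
  have hd : orderOf (a * b) ∣ q ^ (i + j) := by
    refine orderOf_dvd_of_pow_eq_one ?_
    rw [h.mul_pow, orderOf_dvd_iff_pow_eq_one.1 (hi ▸ pow_dvd_pow q (Nat.le_add_right i j)),
      orderOf_dvd_iff_pow_eq_one.1 (hj ▸ pow_dvd_pow q (Nat.le_add_left j i)), one_mul]
  obtain ⟨k, -, hk⟩ := (Nat.dvd_prime_pow Fact.out).1 hd
  exact ⟨k, hk⟩

variable (C : Subgroup G) (q : ℕ) [Fact q.Prime]

/-- The `q`-part of the centre of `C`. -/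
def qpart : Subgroup G where
  carrier := {v | v ∈ centPart C ∧ Prim q v}
  one_mem' := ⟨one_mem _, 0, by simp⟩
  mul_mem' {a b} ha hb :=
    ⟨mul_mem ha.1 hb.1, prim_mul ((mem_centPart.1 hb.1).2 a (mem_centPart.1 ha.1).1) ha.2 hb.2⟩
  inv_mem' {a} ha := ⟨inv_mem ha.1, ha.2.imp fun k hk => by rw [orderOf_inv, hk]⟩

variable {C} {q}

theorem mem_qpart {v : G} : v ∈ qpart C q ↔ v ∈ centPart C ∧ Prim q v := Iff.rfl

theorem qpart_le : qpart C q ≤ C := fun _ hv => (mem_centPart.1 hv.1).1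

theorem qpart_comm {v y : G} (hv : v ∈ qpart C q) (hy : y ∈ C) : y * v = v * y :=
  (mem_centPart.1 hv.1).2 y hy

theorem qpart_conj {v x : G} (hx : x ∈ Subgroup.normalizer (C : Set G)) (hv : v ∈ qpart C q) :
    x * v * x⁻¹ ∈ qpart C q := by
  refine ⟨mem_centPart.2 ⟨(Subgroup.mem_normalizer_iff.1 hx v).1 (qpart_le hv), fun y hy => ?_⟩, ?_⟩
  · have hy' : x⁻¹ * y * x ∈ C := by
      simpa using (Subgroup.mem_normalizer_iff.1 (inv_mem hx) y).1 hy
    calc y * (x * v * x⁻¹) = x * ((x⁻¹ * y * x) * v) * x⁻¹ := by group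
      _ = x * (v * (x⁻¹ * y * x)) * x⁻¹ := by rw [qpart_comm hv hy']
      _ = x * v * x⁻¹ * y := by group
  · exact Prim.map Fact.out (MulAut.conj x).toMonoidHom hv.2

theorem qpart_isPGroup : IsPGroup q (qpart C q) := by
  rintro ⟨v, hv⟩
  obtain ⟨k, hk⟩ := hv.2
  exact ⟨k, Subtype.ext (show v ^ q ^ k = 1 by rw [← hk, pow_orderOf_eq_one])⟩

variable (C) (q)

/-- Every noncentral `q`-element of the centre of `C` has its centralizer inside `C`. -/
def FP : Prop := ∀ v ∈ qpart C q, v ∉ Subgroup.center G → cent v ≤ C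

variable {C} {q}

theorem FP.central (h : FP C q) {x v : G} (hxC : x ∉ C) (hv : v ∈ qpart C q) (hc : x * v = v * x) :
    v ∈ Subgroup.center G := by
  by_contra hv0
  exact hxC (h v hv hv0 (mem_cent.2 hc))

/-- Products of conjugates along the powers of `g`. -/
theorem norm_mem {v g : G} (hg : g ∈ Subgroup.normalizer (C : Set G)) (hv : v ∈ qpart C q) :
    ∀ i : ℕ, (v * g) ^ i * (g ^ i)⁻¹ ∈ qpart C q
  | 0 => by simp
  | i + 1 => by
    rw [show (v * g) ^ (i + 1) * (g ^ (i + 1))⁻¹ = ((v * g) ^ i * (g ^ i)⁻¹) * (g ^ i * v * (g ^ i)⁻¹) by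
      rw [pow_succ, pow_succ]; group]
    exact mul_mem (norm_mem hg hv i) (qpart_conj (pow_mem hg i) hv)

theorem norm_central (h : FP C q) {v g : G} {n : ℕ} (hg : g ∈ Subgroup.normalizer (C : Set G)) (hgC : g ∉ C)
    (hn : g ^ n ∈ C) (hv : v ∈ qpart C q) : (v * g) ^ n * (g ^ n)⁻¹ ∈ Subgroup.center G := by
  have hN := norm_mem hg hv n
  refine h.central hgC hN ?_
  set P := (v * g) ^ n * (g ^ n)⁻¹ with hP
  have e : g * (v * g) ^ n = v⁻¹ * (v * g) ^ n * (v * g) := by
    rw [mul_assoc v⁻¹, ← pow_succ, pow_succ' (v * g), ← mul_assoc v⁻¹, inv_mul_cancel_left]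
  have h2 : v * (g ^ n)⁻¹ = (g ^ n)⁻¹ * v := (qpart_comm hv (inv_mem hn)).symm
  have h3 : g * P * g⁻¹ = P := by
    calc g * P * g⁻¹ = g * (v * g) ^ n * ((g ^ n)⁻¹ * g⁻¹) := by simp only [hP, mul_assoc]
      _ = v⁻¹ * (v * g) ^ n * (v * g) * ((g ^ n)⁻¹ * g⁻¹) := by rw [e]
      _ = v⁻¹ * (v * g) ^ n * (v * (g ^ n)⁻¹) := by
          generalize (v * g) ^ n = X
          group
      _ = v⁻¹ * (P * v) := by simp only [h2, hP, mul_assoc]
      _ = P := by rw [qpart_comm hv (qpart_le hN), inv_mul_cancel_left]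
  exact mul_inv_eq_iff_eq_mul.1 h3

/-- An element normalizing `C` fixes a noncentral coset in the centre of `C`. -/
theorem exists_fixed_coset {h : G} (hh : h ∈ Subgroup.normalizer (C : Set G)) (hq : Prim q h)
    (hw : ∃ v ∈ qpart C q, v ∉ Subgroup.center G) :
    ∃ v ∈ qpart C q, v ∉ Subgroup.center G ∧ v⁻¹ * (h * v * h⁻¹) ∈ Subgroup.center G := by
  set A := qpart C q with hA
  have hn : Subgroup.zpowers h ≤ Subgroup.normalizer (A : Set G) := by
    rw [Subgroup.zpowers_le]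
    refine Subgroup.mem_normalizer_iff.2 fun v => ⟨fun hv => qpart_conj hh hv, fun hv => ?_⟩
    have := qpart_conj (inv_mem hh) hv
    rwa [show h⁻¹ * (h * v * h⁻¹) * h⁻¹⁻¹ = v by group] at this
  set P := A ⊔ Subgroup.zpowers h with hP
  have hPp : IsPGroup q P := qpart_isPGroup.to_sup_of_normal_left' hq.isPGroup hn
  haveI hAn : (A.subgroupOf P).Normal := by
    refine (Subgroup.normal_subgroupOf_iff_le_normalizer le_sup_left).2 (sup_le Subgroup.le_normalizer hn)
  set ZP := (Subgroup.center G).subgroupOf P with hZP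
  set W := (A.subgroupOf P).map (QuotientGroup.mk' ZP) with hW
  haveI : W.Normal := hAn.map _ (QuotientGroup.mk'_surjective ZP)
  have hWne : W ≠ ⊥ := by
    obtain ⟨v, hv, hvz⟩ := hw
    intro e
    have h1 : QuotientGroup.mk' ZP ⟨v, Subgroup.mem_sup_left hv⟩ ∈ W :=
      Subgroup.mem_map_of_mem _ (Subgroup.mem_subgroupOf.2 hv)
    rw [e, Subgroup.mem_bot] at h1
    exact hvz (Subgroup.mem_subgroupOf.1 ((QuotientGroup.eq_one_iff _).1 h1))
  obtain ⟨z, hzW, hz1, hzc⟩ := Solv.Fct.normal_inf_center' (hPp.to_quotient ZP) W hWne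
  obtain ⟨⟨v, hvP⟩, hv, rfl⟩ := hzW
  refine ⟨v, Subgroup.mem_subgroupOf.1 hv,
    fun hvz => hz1 ((QuotientGroup.eq_one_iff _).2 (Subgroup.mem_subgroupOf.2 hvz)), ?_⟩
  have hh' : h ∈ P := Subgroup.mem_sup_right (Subgroup.mem_zpowers h)
  have e : QuotientGroup.mk' ZP ((⟨v, hvP⟩ : P)⁻¹ * (⟨h, hh'⟩ * ⟨v, hvP⟩ * (⟨h, hh'⟩ : P)⁻¹)) = 1 := by
    rw [map_mul, map_mul, map_mul, map_inv, map_inv, hzc (QuotientGroup.mk' ZP ⟨h, hh'⟩)]
    group
  exact Subgroup.mem_subgroupOf.1 ((QuotientGroup.eq_one_iff _).1 e)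

/-- Two commuting partial primes are impossible. -/
theorem commuting_false (hF : FP C q) (hw : ∃ v ∈ qpart C q, v ∉ Subgroup.center G) {r : ℕ} (hr : r.Prime)
    (hrq : r ≠ q) {h g : G} (hh : h ∈ Subgroup.normalizer (C : Set G)) (hhC : h ∉ C) (hhq : Prim q h)
    (hg : g ∈ Subgroup.normalizer (C : Set G)) (hgC : g ∉ C) (hgr : g ^ r ∈ C)
    (hcomm : h * g * h⁻¹ * g⁻¹ ∈ C) : False := by
  obtain ⟨v, hv, hvz, hz⟩ := exists_fixed_coset hh hhq hw
  set ζ := v⁻¹ * (h * v * h⁻¹) with hζ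
  have hζq : ζ ∈ qpart C q := mul_mem (inv_mem hv) (qpart_conj hh hv)
  have hζc : ∀ x : G, x * ζ = ζ * x := fun x => Subgroup.mem_center_iff.1 hz x
  have hstep : ∀ i : ℕ, h * (g ^ i * v * (g ^ i)⁻¹) * h⁻¹ = g ^ i * v * (g ^ i)⁻¹ * ζ := by
    intro i
    induction i with
    | zero => simp only [pow_zero, inv_one, mul_one, one_mul]; rw [hζ]; group
    | succ i ih =>
      set w := g ^ i * v * (g ^ i)⁻¹ with hw'
      have hwq : w ∈ qpart C q := qpart_conj (pow_mem hg i) hv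
      have e : g ^ (i + 1) * v * (g ^ (i + 1))⁻¹ = g * w * g⁻¹ := by rw [hw', pow_succ']; group
      set c := h * g * h⁻¹ * g⁻¹ with hc
      have h5 : g * (w * ζ) * g⁻¹ ∈ qpart C q := qpart_conj hg (mul_mem hwq hζq)
      rw [e]
      calc h * (g * w * g⁻¹) * h⁻¹ = c * (g * (h * w * h⁻¹) * g⁻¹) * c⁻¹ := by rw [hc]; group
        _ = c * (g * (w * ζ) * g⁻¹) * c⁻¹ := by rw [ih]
        _ = g * (w * ζ) * g⁻¹ := by rw [qpart_comm h5 hcomm]; group
        _ = g * w * (ζ * g⁻¹) := by group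
        _ = _ := by rw [← hζc]; group
  have hprod : ∀ n : ℕ, h * ((v * g) ^ n * (g ^ n)⁻¹) * h⁻¹ = (v * g) ^ n * (g ^ n)⁻¹ * ζ ^ n := by
    intro n
    induction n with
    | zero => simp
    | succ n ih =>
      set P := (v * g) ^ n * (g ^ n)⁻¹ with hP
      set w := g ^ n * v * (g ^ n)⁻¹ with hw'
      have e : (v * g) ^ (n + 1) * (g ^ (n + 1))⁻¹ = P * w := by
        rw [hP, hw', pow_succ, pow_succ]; group
      rw [e]
      calc h * (P * w) * h⁻¹ = (h * P * h⁻¹) * (h * w * h⁻¹) := by group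
        _ = P * (ζ ^ n * w) * ζ := by rw [ih, hw', hstep n]; simp only [mul_assoc]
        _ = P * (w * ζ ^ n) * ζ := by rw [(show Commute ζ w from (hζc w).symm).pow_left n |>.eq]
        _ = _ := by rw [pow_succ]; group
  have hN := norm_central hF hg hgC hgr hv
  have e1 := hprod r
  rw [Subgroup.mem_center_iff.1 hN h, mul_inv_cancel_right] at e1
  have e2 : ζ ^ r = 1 := mul_left_cancel (a := (v * g) ^ r * (g ^ r)⁻¹) (by rw [mul_one]; exact e1.symm)
  have e3 : ζ = 1 := eq_one_of_prim_coprime hζq.2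
    ((((Nat.coprime_primes hr Fact.out).2 hrq).coprime_dvd_left (orderOf_dvd_of_pow_eq_one e2)))
  refine hvz (hF.central hhC hv ?_)
  calc h * v = v * (v⁻¹ * (h * v * h⁻¹)) * h := by group
    _ = v * h := by rw [← hζ, e3, mul_one]

variable (C) (q)

/-- `qpart` modulo the centre of `G`. -/
abbrev Bar : Type u := (qpart C q) ⧸ (Subgroup.center G).subgroupOf (qpart C q)

noncomputable instance barComm : CommGroup (Bar C q) :=
  { (inferInstance : Group (Bar C q)) with
    mul_comm := fun a b => by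
      induction a using QuotientGroup.induction_on with
      | _ a => induction b using QuotientGroup.induction_on with
        | _ b => exact congrArg QuotientGroup.mk (Subtype.ext (qpart_comm b.2 (qpart_le a.2))) }

/-- Conjugation on `qpart`. -/
def conjA (x : Subgroup.normalizer (C : Set G)) : qpart C q →* qpart C q where
  toFun v := ⟨x * v * (x : G)⁻¹, qpart_conj x.2 v.2⟩
  map_one' := Subtype.ext (by simp)
  map_mul' a b := Subtype.ext (show (x : G) * ((a : G) * b) * (x : G)⁻¹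
    = ((x : G) * a * (x : G)⁻¹) * ((x : G) * b * (x : G)⁻¹) by group)

/-- The induced endomorphism. -/
def rho (x : Subgroup.normalizer (C : Set G)) : Bar C q →* Bar C q :=
  QuotientGroup.map _ _ (conjA C q x) fun v hv => Subgroup.mem_comap.2 (Subgroup.mem_subgroupOf.2
    (show (x : G) * v * (x : G)⁻¹ ∈ Subgroup.center G from
      Subgroup.Normal.conj_mem inferInstance _ (Subgroup.mem_subgroupOf.1 hv) _))

/-- The action as additive endomorphisms. -/
noncomputable def opN : Subgroup.normalizer (C : Set G) →* AddMonoid.End (Additive (Bar C q)) where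
  toFun x := MonoidHom.toAdditive (rho C q x)
  map_one' := by
    refine AddMonoidHom.ext fun a => ?_
    induction a using Additive.rec with
    | ofMul a => induction a using QuotientGroup.induction_on with
      | _ a =>
        exact congrArg (fun b => Additive.ofMul (QuotientGroup.mk b))
          (Subtype.ext (show (1 : G) * a * (1 : G)⁻¹ = a by group))
  map_mul' x y := by
    refine AddMonoidHom.ext fun a => ?_
    induction a using Additive.rec with
    | ofMul a => induction a using QuotientGroup.induction_on with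
      | _ a =>
        exact congrArg (fun b => Additive.ofMul (QuotientGroup.mk b))
          (Subtype.ext (show ((x : G) * y) * a * ((x : G) * y)⁻¹
            = (x : G) * ((y : G) * a * (y : G)⁻¹) * (x : G)⁻¹ by group))

/-- `N(C)/C`. -/
abbrev Quo : Type u :=
  (Subgroup.normalizer (C : Set G)) ⧸ C.subgroupOf (Subgroup.normalizer (C : Set G))

/-- The action of `N(C)/C`. -/
noncomputable def op : Quo C →* AddMonoid.End (Additive (Bar C q)) :=
  QuotientGroup.lift _ (opN C q) fun x hx => by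
    refine AddMonoidHom.ext fun a => ?_
    induction a using Additive.rec with
    | ofMul a => induction a using QuotientGroup.induction_on with
      | _ a =>
        exact congrArg (fun b => Additive.ofMul (QuotientGroup.mk b))
          (Subtype.ext (show (x : G) * a * (x : G)⁻¹ = a by
            rw [qpart_comm a.2 (Subgroup.mem_subgroupOf.1 hx), mul_inv_cancel_right]))

variable {C} {q}

theorem sum_op_apply (g : Subgroup.normalizer (C : Set G)) (v : qpart C q) :
    ∀ n : ℕ, (∑ i ∈ Finset.range n, op C q (QuotientGroup.mk g) ^ i)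
        (Additive.ofMul (QuotientGroup.mk v : Bar C q)) =
      Additive.ofMul (QuotientGroup.mk
        (⟨((v : G) * g) ^ n * ((g : G) ^ n)⁻¹, norm_mem g.2 v.2 n⟩ : qpart C q) : Bar C q)
  | 0 => by
    rw [Finset.sum_range_zero]
    refine (congrArg (fun b => Additive.ofMul (QuotientGroup.mk b : Bar C q)) ?_ :
      Additive.ofMul (QuotientGroup.mk (1 : qpart C q) : Bar C q) = _)
    exact Subtype.ext (by simp)
  | n + 1 => by
    rw [Finset.sum_range_succ, ← map_pow]
    refine (congrArg₂ (· + ·) (sum_op_apply g v n) rfl).trans ?_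
    refine (congrArg (fun b => Additive.ofMul (QuotientGroup.mk b : Bar C q)) ?_ :
      Additive.ofMul (QuotientGroup.mk (⟨((v : G) * g) ^ n * ((g : G) ^ n)⁻¹, norm_mem g.2 v.2 n⟩ *
        conjA C q (g ^ n) v) : Bar C q) = _)
    refine Subtype.ext ?_
    show (((v : G) * g) ^ n * ((g : G) ^ n)⁻¹) * ((g : G) ^ n * v * ((g : G) ^ n)⁻¹) = _
    simp only [pow_succ]; group

theorem sum_op (h : FP C q) {x : Quo C} (hx : x ≠ 1) {n : ℕ} (hn : x ^ n = 1) :
    ∑ i ∈ Finset.range n, op C q x ^ i = 0 := by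
  induction x using QuotientGroup.induction_on with
  | _ g =>
    have hg : (g : G) ∉ C := fun hc => hx ((QuotientGroup.eq_one_iff g).2 (Subgroup.mem_subgroupOf.2 hc))
    have hgn : (g : G) ^ n ∈ C := by
      rw [← QuotientGroup.mk_pow] at hn
      exact Subgroup.mem_subgroupOf.1 ((QuotientGroup.eq_one_iff _).1 hn)
    refine AddMonoidHom.ext fun a => ?_
    induction a using Additive.rec with
    | ofMul a => induction a using QuotientGroup.induction_on with
      | _ v =>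
        refine (sum_op_apply g v n).trans ?_
        exact congrArg Additive.ofMul ((QuotientGroup.eq_one_iff _).2
          (Subgroup.mem_subgroupOf.2 (norm_central h g.2 hg hgn v.2)))

theorem pow_comm {X : Type*} [Group X] {H K : X} {k : ℕ} (hrel : K * H = H ^ k * K) :
    ∀ i j : ℕ, K ^ i * H ^ j = H ^ (j * k ^ i) * K ^ i := by
  have h1 : ∀ j : ℕ, K * H ^ j = H ^ (j * k) * K := by
    intro j
    induction j with
    | zero => simp
    | succ j ih =>
      rw [pow_succ, ← mul_assoc, ih, mul_assoc, hrel, ← mul_assoc, ← pow_add, add_mul, one_mul]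
  intro i
  induction i with
  | zero => simp
  | succ i ih =>
    intro j
    rw [pow_succ, mul_assoc, h1, ← mul_assoc, ih, mul_assoc, pow_succ k, mul_assoc j, mul_comm k]

theorem pow_mul_pow {X : Type*} [Group X] {H K : X} {k : ℕ} (hrel : K * H = H ^ k * K) (j : ℕ) :
    ∀ i : ℕ, (H ^ j * K) ^ i = H ^ (j * ∑ a ∈ Finset.range i, k ^ a) * K ^ i
  | 0 => by simp
  | i + 1 => by
    rw [pow_succ, pow_mul_pow hrel j i, Finset.sum_range_succ, mul_add, pow_add]
    calc H ^ (j * ∑ a ∈ Finset.range i, k ^ a) * K ^ i * (H ^ j * K)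
        = H ^ (j * ∑ a ∈ Finset.range i, k ^ a) * (K ^ i * H ^ j) * K := by group
      _ = _ := by rw [pow_comm hrel i j]; group

/-- A pair of subgroups of order `l` and index `n` normalizing each other is impossible. -/
theorem pair_false (hF : FP C q) (hw : ∃ v ∈ qpart C q, v ∉ Subgroup.center G) {l : ℕ} (hl : l.Prime)
    (hlq : l ≠ q) {H K : Quo C} {k n : ℕ} (hH : H ^ l = 1) (hH1 : H ≠ 1) (hn0 : 0 < n) (hK : K ^ n = 1)
    (hrel : K * H = H ^ k * K) (hs : ∀ i, 0 < i → i < n → ¬ l ∣ ∑ a ∈ Finset.range i, k ^ a)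
    (hsn : l ∣ ∑ a ∈ Finset.range n, k ^ a) (hne : ∀ j : ℕ, H ^ j * K ≠ 1) : False := by
  set R := op C q with hR
  have h0 : ∀ j ∈ Finset.range l, ∑ i ∈ Finset.range n, R (H ^ j * K) ^ i = 0 := fun j _ => by
    refine sum_op hF (hne j) ?_
    obtain ⟨c, hc⟩ := hsn
    rw [pow_mul_pow hrel, hK, mul_one, hc, mul_comm j, mul_assoc, pow_mul, hH, one_pow]
  have h1 := Finset.sum_eq_zero h0
  rw [Finset.sum_comm] at h1
  rw [Finset.sum_eq_single_of_mem 0 (Finset.mem_range.2 hn0) ?_] at h1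
  · simp only [pow_zero, Finset.sum_const, Finset.card_range] at h1
    obtain ⟨v, hv, hvz⟩ := hw
    have h2 := DFunLike.congr_fun h1 (Additive.ofMul (QuotientGroup.mk (⟨v, hv⟩ : qpart C q) : Bar C q))
    have h3 : (QuotientGroup.mk (⟨v, hv⟩ : qpart C q) : Bar C q) ^ l = 1 := by
      have : l • Additive.ofMul (QuotientGroup.mk (⟨v, hv⟩ : qpart C q) : Bar C q) = 0 := by
        simpa using h2
      exact congrArg Additive.toMul this
    rw [← QuotientGroup.mk_pow] at h3
    have h4 : v ^ l ∈ Subgroup.center G := Subgroup.mem_subgroupOf.1 ((QuotientGroup.eq_one_iff _).1 h3)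
    have hco : l.Coprime (orderOf v) := (Prim.coprime_prime Fact.out hl (Ne.symm hlq) hv.2).symm
    obtain ⟨m, hm⟩ := exists_pow_eq_self_of_coprime hco
    exact hvz (hm ▸ pow_mem h4 m)
  · intro i hi hi0
    have hi' := Finset.mem_range.1 hi
    have hne1 : H ^ (∑ a ∈ Finset.range i, k ^ a) ≠ 1 := fun e => hs i (Nat.pos_of_ne_zero hi0) hi'
      (orderOf_eq_prime (hp := Fact.mk hl) hH hH1 ▸ orderOf_dvd_of_pow_eq_one e)
    have e : ∀ j ∈ Finset.range l, R (H ^ j * K) ^ i =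
        R (H ^ (∑ a ∈ Finset.range i, k ^ a)) ^ j * R (K ^ i) := fun j _ => by
      rw [← map_pow, pow_mul_pow hrel, map_mul, ← map_pow R _ j, ← pow_mul, mul_comm j]
    rw [Finset.sum_congr rfl e, ← Finset.sum_mul, sum_op hF hne1 (by rw [← pow_mul, mul_comm, pow_mul, hH, one_pow]),
      zero_mul]

theorem exists_order_prime {X : Type*} [Group X] [Finite X] {r : ℕ} (hr : r.Prime) {x : X} (hx : Prim r x)
    (hx1 : x ≠ 1) : ∃ y : X, orderOf y = r := by
  obtain ⟨j, hj⟩ := hx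
  rcases j with _ | j
  · exact absurd (orderOf_eq_one_iff.1 (by rw [hj, pow_zero])) hx1
  · exact ⟨x ^ r ^ j, by rw [orderOf_pow_of_dvd (pow_ne_zero _ hr.ne_zero) (hj ▸ pow_dvd_pow r j.le_succ), hj,
      pow_succ, Nat.mul_div_cancel_left _ (pow_pos hr.pos _)]⟩

omit [Fact q.Prime] in
theorem exists_lift_prim {r : ℕ} [Fact r.Prime] {x : Quo C} (hx : Prim r x) :
    ∃ h : Subgroup.normalizer (C : Set G), QuotientGroup.mk h = x ∧ Prim r (h : G) := by
  induction x using QuotientGroup.induction_on with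
  | _ y =>
    obtain ⟨a, b, ha', hb', hab, ha, hb⟩ := Solv.exists_ppart r y
    refine ⟨a, ?_, Prim.coe ha⟩
    have hb1 : (QuotientGroup.mk b : Quo C) = 1 := by
      refine eq_one_of_prim_coprime (q := r) ?_ (hb.coprime_dvd_left (orderOf_map_dvd (QuotientGroup.mk' _) b))
      have e : (QuotientGroup.mk b : Quo C) = (QuotientGroup.mk a)⁻¹ * QuotientGroup.mk y := by
        rw [← hab, QuotientGroup.mk_mul, inv_mul_cancel_left]
      rw [e]
      have hab' : Commute a y := by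
        rw [← hab]
        exact (Commute.refl a).mul_right (show Commute a b from by
          obtain ⟨i, hi⟩ := Subgroup.mem_zpowers_iff.1 ha'
          obtain ⟨j, hj⟩ := Subgroup.mem_zpowers_iff.1 hb'
          rw [← hi, ← hj]; exact (Commute.refl y).zpow_zpow i j)
      refine prim_mul ((hab'.map (QuotientGroup.mk' _)).inv_left) ?_ hx
      obtain ⟨i, hi⟩ := Prim.map Fact.out (QuotientGroup.mk' (C.subgroupOf (Subgroup.normalizer (C : Set G)))) ha
      exact ⟨i, by rw [orderOf_inv]; exact hi⟩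
    rw [← hab, QuotientGroup.mk_mul, hb1, mul_one]

/-- The even case: an involution forces a dihedral section. -/
theorem even_false {s t : ℕ} [Fact s.Prime] [Fact t.Prime] (hts : t ≠ s) (ht2 : t ≠ 2) (hFs : FP C s) (hFt : FP C t)
    (hws : ∃ v ∈ qpart C s, v ∉ Subgroup.center G) (hwt : ∃ v ∈ qpart C t, v ∉ Subgroup.center G)
    {I T : Quo C} (hI : orderOf I = 2) (hT : orderOf T = t) : False := by
  obtain ⟨h, hhT, hht⟩ := exists_lift_prim (r := t) (x := T) ⟨1, by rw [hT, pow_one]⟩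
  have hT1 : T ≠ 1 := fun e => (Fact.out : t.Prime).ne_one (by rw [← hT, e, orderOf_one])
  have hI1 : I ≠ 1 := fun e => by rw [e, orderOf_one] at hI; omega
  have hI2 : I * I = 1 := by rw [← pow_two, ← hI, pow_orderOf_eq_one]
  obtain ⟨i, hiI⟩ := QuotientGroup.mk_surjective I
  have hhC : (h : G) ∉ C := fun hc => hT1 (hhT ▸ (QuotientGroup.eq_one_iff h).2 (Subgroup.mem_subgroupOf.2 hc))
  have hiC : (i : G) ∉ C := fun hc => hI1 (hiI ▸ (QuotientGroup.eq_one_iff i).2 (Subgroup.mem_subgroupOf.2 hc))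
  have hi2 : (i : G) ^ 2 ∈ C := by
    have : (QuotientGroup.mk (i ^ 2) : Quo C) = 1 := by rw [QuotientGroup.mk_pow, hiI, pow_two, hI2]
    exact Subgroup.mem_subgroupOf.1 ((QuotientGroup.eq_one_iff _).1 this)
  obtain ⟨v, hv, hvz, hz⟩ := exists_fixed_coset h.2 hht hwt
  set ζ := v⁻¹ * ((h : G) * v * (h : G)⁻¹) with hζ
  have hζq : ζ ∈ qpart C t := mul_mem (inv_mem hv) (qpart_conj h.2 hv)
  have hζ1 : ζ ≠ 1 := fun e => hvz (hFt.central hhC hv (by
    calc (h : G) * v = v * ζ * h := by rw [hζ]; group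
      _ = v * h := by rw [e, mul_one]))
  set c := v * ((i : G) * v * (i : G)⁻¹) with hc
  have hcz : c ∈ Subgroup.center G := by
    have := norm_central hFt i.2 hiC hi2 hv
    rwa [show (v * (i : G)) ^ 2 * ((i : G) ^ 2)⁻¹ = c by rw [hc, pow_two, pow_two]; group] at this
  set K := h * i * h⁻¹ * i with hK
  have hKv : (K : G) * v * (K : G)⁻¹ = v * (ζ * ζ) := by
    have e1 : (i : G) * v * (i : G)⁻¹ = v⁻¹ * c := by rw [hc]; group
    have e2 : (h : G)⁻¹ * v * (h : G) = v * ζ⁻¹ := by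
      calc (h : G)⁻¹ * v * (h : G) = (h : G)⁻¹ * (v * ζ * ζ⁻¹) * h := by group
        _ = (h : G)⁻¹ * (v * ζ) * (ζ⁻¹ * h) := by group
        _ = (h : G)⁻¹ * (v * ζ) * ((h : G) * ζ⁻¹) := by rw [Subgroup.mem_center_iff.1 (inv_mem hz) (h : G)]
        _ = v * ζ⁻¹ := by rw [hζ]; group
    have hcc : ∀ x : G, x * c = c * x := fun x => Subgroup.mem_center_iff.1 hcz x
    have hzc : ∀ x : G, x * ζ = ζ * x := fun x => Subgroup.mem_center_iff.1 hz x
    have e4 : (h : G) * v⁻¹ * (h : G)⁻¹ = ζ⁻¹ * v⁻¹ := by rw [hζ]; group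
    have e3 : (i : G) * ((h : G)⁻¹ * v⁻¹ * (h : G)) * (i : G)⁻¹ = c⁻¹ * v * ζ := by
      calc (i : G) * ((h : G)⁻¹ * v⁻¹ * (h : G)) * (i : G)⁻¹
          = (i : G) * ((h : G)⁻¹ * v * (h : G))⁻¹ * (i : G)⁻¹ := by group
        _ = (i : G) * ζ * v⁻¹ * (i : G)⁻¹ := by rw [e2]; group
        _ = ζ * ((i : G) * v * (i : G)⁻¹)⁻¹ := by rw [hzc (i : G)]; group
        _ = (c⁻¹ * v) * ζ := by rw [e1, hzc]; group
    calc (K : G) * v * (K : G)⁻¹
        = (h : G) * i * (h : G)⁻¹ * ((i : G) * v * (i : G)⁻¹) * ((h : G) * (i : G)⁻¹ * (h : G)⁻¹) := by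
          rw [hK]; simp only [Subgroup.coe_mul, Subgroup.coe_inv]; group
      _ = (h : G) * i * (h : G)⁻¹ * v⁻¹ * (c * (h : G)) * ((i : G)⁻¹ * (h : G)⁻¹) := by rw [e1]; group
      _ = (h : G) * ((i : G) * ((h : G)⁻¹ * v⁻¹ * (h : G)) * (c * (i : G)⁻¹)) * (h : G)⁻¹ := by
          rw [← hcc (h : G)]; group
      _ = (h : G) * (((i : G) * ((h : G)⁻¹ * v⁻¹ * (h : G)) * (i : G)⁻¹) * c) * (h : G)⁻¹ := by
          rw [← hcc (i : G)⁻¹]; group
      _ = (h : G) * (v * ζ) * (h : G)⁻¹ := by rw [e3, hcc (c⁻¹ * v * ζ)]; group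
      _ = ((h : G) * v * (h : G)⁻¹) * ζ := by
          calc (h : G) * (v * ζ) * (h : G)⁻¹ = (h : G) * v * (ζ * (h : G)⁻¹) := by group
            _ = _ := by rw [← hzc]; group
      _ = v * (ζ * ζ) := by rw [hζ]; group
  have hKn : ∀ n : ℕ, (K : G) ^ n * v * ((K : G) ^ n)⁻¹ = v * (ζ * ζ) ^ n := by
    intro n
    induction n with
    | zero => simp
    | succ n ih =>
      have hzz : ∀ x : G, x * (ζ * ζ) = ζ * ζ * x := fun x =>
        Subgroup.mem_center_iff.1 (mul_mem hz hz) x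
      calc (K : G) ^ (n + 1) * v * ((K : G) ^ (n + 1))⁻¹
          = (K : G) ^ n * ((K : G) * v * (K : G)⁻¹) * ((K : G) ^ n)⁻¹ := by rw [pow_succ]; group
        _ = (K : G) ^ n * v * ((ζ * ζ) * ((K : G) ^ n)⁻¹) := by rw [hKv]; group
        _ = ((K : G) ^ n * v * ((K : G) ^ n)⁻¹) * (ζ * ζ) := by rw [← hzz]; group
        _ = _ := by rw [ih, pow_succ]; group
  set KX : Quo C := QuotientGroup.mk K with hKX
  have hKX' : KX = T * I * T⁻¹ * I := by
    rw [hKX, hK, QuotientGroup.mk_mul, QuotientGroup.mk_mul, QuotientGroup.mk_mul, QuotientGroup.mk_inv, hhT, hiI]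
  have htn : t ∣ orderOf KX := by
    set n := orderOf KX
    have hn : (K : G) ^ n ∈ C := by
      have : (QuotientGroup.mk (K ^ n) : Quo C) = 1 := by rw [QuotientGroup.mk_pow]; exact pow_orderOf_eq_one KX
      exact Subgroup.mem_subgroupOf.1 ((QuotientGroup.eq_one_iff _).1 this)
    have h2 : ζ ^ (2 * n) = 1 := by
      have e := hKn n
      rw [qpart_comm hv hn, mul_inv_cancel_right] at e
      rw [pow_mul, pow_two]
      exact (mul_left_cancel (a := v) (by rw [mul_one]; exact e.symm))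
    obtain ⟨a, ha⟩ := hζq.2
    have hta : t ∣ orderOf ζ := by
      rcases a with _ | a
      · exact absurd (orderOf_eq_one_iff.1 (by rw [ha, pow_zero])) hζ1
      · exact ha ▸ dvd_pow_self t (Nat.succ_ne_zero a)
    exact ((Fact.out : t.Prime).dvd_mul.1 (hta.trans (orderOf_dvd_of_pow_eq_one h2))).resolve_left fun h' =>
      ht2 ((Nat.prime_dvd_prime_iff_eq Fact.out Nat.prime_two).1 h')
  obtain ⟨m, hm⟩ := htn
  have hmpos : m ≠ 0 := fun e => (orderOf_pos KX).ne' (by rw [hm, e, mul_zero])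
  set H := KX ^ m with hH
  have hHt : orderOf H = t := by
    rw [hH, orderOf_pow_of_dvd hmpos (hm ▸ Dvd.intro_left t rfl), hm, Nat.mul_div_cancel _ (Nat.pos_of_ne_zero hmpos)]
  have hIinv : I⁻¹ = I := inv_eq_of_mul_eq_one_right hI2
  have hinv : I * KX * I⁻¹ = KX⁻¹ := by
    rw [hKX', mul_inv_rev, mul_inv_rev, mul_inv_rev, inv_inv, hIinv]
    simp only [mul_assoc, hI2, mul_one]
  have hrel : I * H = H ^ (t - 1) * I := by
    have h1 : I * H * I⁻¹ = H⁻¹ := by rw [hH, ← conj_pow, hinv, inv_pow]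
    have h2 : H ^ (t - 1) = H⁻¹ := eq_inv_of_mul_eq_one_left (by
      rw [← pow_succ, Nat.sub_add_cancel (Fact.out : t.Prime).one_le, ← hHt, pow_orderOf_eq_one])
    rw [h2, ← h1, inv_mul_cancel_right]
  refine pair_false (n := 2) (k := t - 1) hFs hws (Fact.out : t.Prime) hts (hHt ▸ pow_orderOf_eq_one H)
    (fun e => (Fact.out : t.Prime).ne_one (by rw [← hHt, e, orderOf_one])) two_pos (by rw [pow_two, hI2]) hrel ?_ ?_ ?_
  · intro i h1 h2
    obtain rfl : i = 1 := by omega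
    simp [(Fact.out : t.Prime).ne_one]
  · simp [Finset.sum_range_succ, Nat.add_sub_cancel' (Fact.out : t.Prime).one_le]
  · intro j hj
    have hIt : I ^ t = 1 := by
      rw [eq_inv_of_mul_eq_one_right hj, inv_pow, ← pow_mul, mul_comm, pow_mul, ← hHt, pow_orderOf_eq_one,
        one_pow, inv_one]
    have := orderOf_dvd_of_pow_eq_one hIt
    rw [hI] at this
    exact ht2 ((Nat.prime_dvd_prime_iff_eq Nat.prime_two Fact.out).1 this).symm

/-- The odd case, inside a solvable Hall subgroup of two primes. -/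
theorem odd_false {q r : ℕ} [Fact q.Prime] [Fact r.Prime] (hrq : r ≠ q) (hFq : FP C q) (hFr : FP C r)
    (hwq : ∃ v ∈ qpart C q, v ∉ Subgroup.center G) (hwr : ∃ v ∈ qpart C r, v ∉ Subgroup.center G)
    {W : Subgroup (Quo C)} (hW : W ≠ ⊥) (hWc : ∀ a ∈ W, ∀ b ∈ W, a * b = b * a) (hWq : ∀ a ∈ W, a ^ q = 1)
    {K : Quo C} (hKW : K ∈ Subgroup.normalizer (W : Set (Quo C))) (hK : orderOf K = r) : False := by
  obtain ⟨H, hHW, hH1⟩ := W.ne_bot_iff_exists_ne_one.1 hW |> fun ⟨a, ha⟩ =>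
    (⟨(a : Quo C), a.2, fun e => ha (Subtype.ext e)⟩ : ∃ H, H ∈ W ∧ H ≠ 1)
  have hqp : q.Prime := Fact.out
  have hrp : r.Prime := Fact.out
  have hHq : orderOf H = q := orderOf_eq_prime (hWq H hHW) hH1
  by_cases hcyc : W ≤ Subgroup.zpowers H
  · have hmem : K * H * K⁻¹ ∈ Subgroup.zpowers H := hcyc ((Subgroup.mem_normalizer_iff.1 hKW H).1 hHW)
    obtain ⟨k, hk⟩ := mem_powers_iff_mem_zpowers.2 hmem
    have hk' : H ^ k = K * H * K⁻¹ := hk
    have hrel : K * H = H ^ k * K := by rw [hk']; group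
    by_cases h1 : H ^ k = H
    · obtain ⟨h, hhH, hhq⟩ := exists_lift_prim (r := q) (x := H) ⟨1, by rw [hHq, pow_one]⟩
      obtain ⟨g, hgK⟩ := QuotientGroup.mk_surjective K
      refine commuting_false hFq hwq hrp hrq h.2 (fun hc => hH1 (hhH ▸ (QuotientGroup.eq_one_iff h).2
        (Subgroup.mem_subgroupOf.2 hc))) hhq g.2 (fun hc => ?_) ?_ ?_
      · have := (QuotientGroup.eq_one_iff g).2 (Subgroup.mem_subgroupOf.2 hc)
        rw [hgK] at this
        exact hrp.ne_one (by rw [← hK, this, orderOf_one])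
      · have : (QuotientGroup.mk (g ^ r) : Quo C) = 1 := by rw [QuotientGroup.mk_pow, hgK, ← hK, pow_orderOf_eq_one]
        exact Subgroup.mem_subgroupOf.1 ((QuotientGroup.eq_one_iff _).1 this)
      · have e : (QuotientGroup.mk (h * g * h⁻¹ * g⁻¹) : Quo C) = 1 := by
          rw [QuotientGroup.mk_mul, QuotientGroup.mk_mul, QuotientGroup.mk_mul, QuotientGroup.mk_inv,
            QuotientGroup.mk_inv, hhH, hgK]
          rw [h1] at hrel
          rw [← hrel]; group
        exact Subgroup.mem_subgroupOf.1 ((QuotientGroup.eq_one_iff _).1 e)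
    have hKr : K ^ r = 1 := hK ▸ pow_orderOf_eq_one K
    have hkq : ((k : ZMod q)) ≠ 1 := fun e => h1 (by
      rw [show (1 : ZMod q) = ((1 : ℕ) : ZMod q) by simp, ZMod.natCast_eq_natCast_iff, ← hHq] at e
      rw [pow_eq_pow_iff_modEq.2 e, pow_one])
    have hkr : (k : ZMod q) ^ r = 1 := by
      have e := pow_comm hrel r 1
      rw [hKr, one_mul, mul_one, pow_one, one_mul] at e
      have e' : H ^ 1 = H ^ k ^ r := by rw [pow_one]; exact e
      rw [pow_eq_pow_iff_modEq, hHq, ← ZMod.natCast_eq_natCast_iff] at e'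
      simpa using e'.symm
    refine pair_false (q := r) hFr hwr hqp (Ne.symm hrq) (hWq H hHW) hH1 hrp.pos hKr hrel ?_ ?_ ?_
    · intro i hi0 hir hd
      have h2 : ((∑ a ∈ Finset.range i, k ^ a : ℕ) : ZMod q) = 0 := (ZMod.natCast_eq_zero_iff _ _).2 hd
      push_cast at h2
      have h3 := geom_sum_mul (k : ZMod q) i
      rw [h2, zero_mul] at h3
      have hd1 : orderOf (k : ZMod q) ∣ i := orderOf_dvd_of_pow_eq_one (sub_eq_zero.1 h3.symm)
      rw [orderOf_eq_prime hkr hkq] at hd1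
      exact absurd (Nat.le_of_dvd hi0 hd1) (not_le.2 hir)
    · refine (ZMod.natCast_eq_zero_iff _ _).1 ?_
      push_cast
      have h3 := geom_sum_mul (k : ZMod q) r
      rw [hkr, sub_self] at h3
      exact (mul_eq_zero.1 h3).resolve_right (sub_ne_zero.2 hkq)
    · intro j hj
      have hKq : K ^ q = 1 := by
        rw [eq_inv_of_mul_eq_one_right hj, inv_pow, ← pow_mul, mul_comm, pow_mul, hWq H hHW, one_pow, inv_one]
      have := orderOf_dvd_of_pow_eq_one hKq
      rw [hK] at this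
      exact hrq ((Nat.prime_dvd_prime_iff_eq hrp hqp).1 this)
  · obtain ⟨L, hLW, hLH⟩ := SetLike.not_le_iff_exists.1 hcyc
    refine pair_false (q := r) (k := 1) (n := q) hFr hwr hqp (Ne.symm hrq) (hWq H hHW) hH1 hqp.pos (hWq L hLW)
      (by rw [pow_one]; exact hWc L hLW H hHW) ?_ ?_ ?_
    · intro i hi0 hiq hd
      simp only [one_pow, Finset.sum_const, Finset.card_range, smul_eq_mul, mul_one] at hd
      exact absurd (Nat.le_of_dvd hi0 hd) (not_le.2 hiq)
    · simp
    · intro j hj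
      exact hLH (eq_inv_of_mul_eq_one_right hj ▸ inv_mem (Subgroup.npow_mem_zpowers H j))

omit [Fact q.Prime] in
/-- `N(C)/C` does not meet both primes. -/
theorem two_primes_false {s t : ℕ} [Fact s.Prime] [Fact t.Prime] (hst : s ≠ t) (hFs : FP C s) (hFt : FP C t)
    (hws : ∃ v ∈ qpart C s, v ∉ Subgroup.center G) (hwt : ∃ v ∈ qpart C t, v ∉ Subgroup.center G)
    {gs gt : G} (hgs : gs ∈ Subgroup.normalizer (C : Set G)) (hgsC : gs ∉ C) (hgsp : Prim s gs)
    (hgt : gt ∈ Subgroup.normalizer (C : Set G)) (hgtC : gt ∉ C) (hgtp : Prim t gt) : False := by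
  have hS : ∀ (r : ℕ), r.Prime → ∀ g : G, g ∈ Subgroup.normalizer (C : Set G) → g ∉ C → Prim r g →
      ∃ x : Quo C, orderOf x = r := fun r hr g hg hgC hgp =>
    exists_order_prime hr (Prim.map hr (QuotientGroup.mk' _) (Prim.mk hg hgp)) fun e =>
      hgC (Subgroup.mem_subgroupOf.1 ((QuotientGroup.eq_one_iff _).1 e))
  obtain ⟨S, hSo⟩ := hS s Fact.out gs hgs hgsC hgsp
  obtain ⟨T, hTo⟩ := hS t Fact.out gt hgt hgtC hgtp
  by_cases hodd : Odd (Nat.card (Quo C))
  swap
  · haveI : Fact (Nat.Prime 2) := ⟨Nat.prime_two⟩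
    obtain ⟨I, hI⟩ := exists_prime_orderOf_dvd_card' (G := Quo C) 2
      (even_iff_two_dvd.1 (Nat.not_odd_iff_even.1 hodd))
    by_cases ht : t = 2
    · exact even_false hst (fun e => hst (e.trans ht.symm)) hFt hFs hwt hws hI hSo
    · exact even_false hst.symm ht hFs hFt hws hwt hI hTo
  obtain ⟨K, hKp, hKc⟩ := Solv.FourPrimes.exists_hall (S0205.result hodd) {s, t}
  have hK : ∀ r : ℕ, r.Prime → r ∈ ({s, t} : Set ℕ) → (∃ x : Quo C, orderOf x = r) →
      ∃ x : K, orderOf x = r := by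
    rintro r hr hrm ⟨x, hx⟩
    obtain ⟨g, hg⟩ := hKc (Subgroup.zpowers x) fun y hy hd => by
      rw [Nat.card_zpowers, hx] at hd
      exact ((Nat.prime_dvd_prime_iff_eq hy hr).1 hd) ▸ hrm
    have hmem : g * x * g⁻¹ ∈ K := hg (Subgroup.smul_mem_pointwise_smul x (MulAut.conj g) _ (Subgroup.mem_zpowers x))
    refine ⟨⟨_, hmem⟩, ?_⟩
    rw [Subgroup.orderOf_mk, ← hx]
    exact orderOf_injective (MulAut.conj g).toMonoidHom (MulAut.conj g).injective x
  obtain ⟨xs, hxs⟩ := hK s Fact.out (Or.inl rfl) ⟨S, hSo⟩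
  obtain ⟨xt, hxt⟩ := hK t Fact.out (Or.inr rfl) ⟨T, hTo⟩
  have hKne : (⊤ : Subgroup K) ≠ ⊥ := fun e => (Fact.out : s.Prime).ne_one (by
    rw [← hxs, Subgroup.mem_bot.1 (e ▸ Subgroup.mem_top xs : xs ∈ (⊥ : Subgroup K)), orderOf_one])
  haveI : Group.IsSolvable (Quo C) := S0205.result hodd
  obtain ⟨q', M, hq', hMn, hM1, -, hMq⟩ := Solv.TwoSizeRegular.exists_elementary_normal_le hKne
    (Group.isSolvable_of_isSolvable_injective (f := (Subgroup.topEquiv (G := K)).toMonoidHom)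
      Subgroup.topEquiv.injective)
  haveI := Fact.mk hq'
  haveI := hMn
  have hMp : IsPGroup q' M := fun m => ⟨1, Subtype.ext (by rw [pow_one]; exact hMq m m.2)⟩
  haveI : Nontrivial M := (Subgroup.nontrivial_iff_ne_bot M).2 hM1
  haveI := hMp.center_nontrivial
  set W0 := (Subgroup.center M).map M.subtype with hW0
  set W := W0.map K.subtype with hWdef
  have hW : W ≠ ⊥ := by
    rw [hWdef, hW0, Ne, Subgroup.map_eq_bot_iff_of_injective _ K.subtype_injective,
      Subgroup.map_eq_bot_iff_of_injective _ M.subtype_injective]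
    exact (Subgroup.nontrivial_iff_ne_bot _).1 inferInstance
  have hWq : ∀ a ∈ W, a ^ q' = 1 := by
    rintro _ ⟨_, ⟨m, -, rfl⟩, rfl⟩
    rw [← map_pow, ← map_pow, show m ^ q' = 1 from Subtype.ext (hMq m m.2), map_one, map_one]
  have hWc : ∀ a ∈ W, ∀ b ∈ W, a * b = b * a := by
    rintro _ ⟨_, ⟨m, -, rfl⟩, rfl⟩ _ ⟨_, ⟨m', hm', rfl⟩, rfl⟩
    rw [← map_mul, ← map_mul, ← map_mul, ← map_mul, Subgroup.mem_center_iff.1 hm' m]
  haveI : W0.Normal := ConjAct.normal_of_characteristic_of_normal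
  have hWn : ∀ k : K, (k : Quo C) ∈ Subgroup.normalizer (W : Set (Quo C)) := fun k => by
    have h1 : ∀ k : K, ∀ a ∈ W, (k : Quo C) * a * (k : Quo C)⁻¹ ∈ W := by
      rintro k _ ⟨a, ha, rfl⟩
      exact ⟨k * a * k⁻¹, Subgroup.Normal.conj_mem ‹_› a ha k, by simp⟩
    refine Subgroup.mem_normalizer_iff.2 fun a => ⟨h1 k a, fun ha => ?_⟩
    have := h1 k⁻¹ _ ha
    simpa [mul_assoc] using this
  have hqst : q' = s ∨ q' = t := by
    obtain ⟨⟨a, ha⟩, ha1⟩ := W.ne_bot_iff_exists_ne_one.1 hW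
    have ho := orderOf_eq_prime (hWq a ha) fun e => ha1 (Subtype.ext e)
    obtain ⟨b, -, rfl⟩ := ha
    refine hKp q' hq' ?_
    rw [← ho]
    exact (orderOf_injective K.subtype K.subtype_injective b).dvd.trans (orderOf_dvd_natCard b)
  rcases hqst with rfl | rfl
  · exact odd_false hst.symm hFs hFt hws hwt hW hWc hWq (hWn xt) (by rw [Subgroup.orderOf_coe, hxt])
  · exact odd_false hst hFt hFs hwt hws hW hWc hWq (hWn xs) (by rw [Subgroup.orderOf_coe, hxs])

end Cfsg.Agent.Char.ItoRank
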