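import Cfsg.Agent.Lib.Char.ThreeIndex.Count
import Cfsg.Agent.Lib.Solv.TwoSizeRegular.Main
import Cfsg.Agent.Lib.Char.Burnside

/-!
# Conjugate rank two: primary parts, centre and uniform sizes
-/

set_option autoImplicit false
set_option linter.style.haveILetI false
set_option linter.unusedSectionVars false

namespace Cfsg.Agent.Char.ItoRank

open Cfsg.Agent.Perm.CoprimeSizes Cfsg.Agent.Perm.CoprimeFour Cfsg.Agent.Char.ThreeIndex

universe u

variable {G : Type u} [Group G] [Finite G]

/-- `C` contains a noncentral `r`-element. -/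
def Has (r : ℕ) (C : Subgroup G) : Prop := ∃ w ∈ C, Prim r w ∧ w ∉ Subgroup.center G

theorem center_le_cent (g : G) : Subgroup.center G ≤ cent g := fun _ hz =>
  mem_cent.2 (Subgroup.mem_center_iff.1 hz g).symm

theorem Has.of_fac {r : ℕ} [Fact r.Prime] {C C' : Subgroup G} (hC : Subgroup.center G ≤ C) (h : Has r C)
    (hle : (Nat.card C).factorization r ≤ (Nat.card C').factorization r) : Has r C' := by
  obtain ⟨w, hw, hwp, hwz⟩ := h
  refine exists_prim_notMem (Subgroup.center G) C' (lt_of_lt_of_le ?_ hle)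
  by_contra hcon
  exact hwz (mem_of_fac_le hC (not_lt.1 hcon) hw hwp)

theorem card_cent_dvd {a b : G} (h : cls a ∣ cls b) : Nat.card (cent b) ∣ Nat.card (cent a) := by
  obtain ⟨c, hc⟩ := h
  refine ⟨c, Nat.eq_of_mul_eq_mul_right (cls_pos a) ?_⟩
  calc Nat.card (cent a) * cls a = Nat.card (cent b) * cls b := by
        rw [(cent a).card_mul_index, (cent b).card_mul_index]
    _ = _ := by rw [hc]; ring

theorem fac_eq_of_cls_eq {a b : G} (h : cls a = cls b) (r : ℕ) :
    (Nat.card (cent a)).factorization r = (Nat.card (cent b)).factorization r := by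
  rw [Nat.dvd_antisymm (card_cent_dvd h.symm.dvd) (card_cent_dvd h.dvd)]

/-- An element lies in every subgroup containing its parts of prime power order. -/
theorem mem_of_primary {g : G} {K : Subgroup G}
    (h : ∀ (r : ℕ) (w : G), r.Prime → Prim r w → w ∈ Subgroup.zpowers g → w ∈ K) : g ∈ K := by
  have htop : K.subgroupOf (Subgroup.zpowers g) = ⊤ := by
    refine eq_top_of_sylows _ fun p hp _ => ?_
    haveI := Fact.mk hp
    obtain ⟨P⟩ : Nonempty (Sylow p (Subgroup.zpowers g)) := inferInstance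
    exact ⟨P, fun w hw => Subgroup.mem_subgroupOf.2 (h p w hp (prim_of_mem_sylow P hw).coe w.2)⟩
  have := htop.symm ▸ Subgroup.mem_top (⟨g, Subgroup.mem_zpowers g⟩ : Subgroup.zpowers g)
  exact this

theorem mem_of_primary_le {D K : Subgroup G}
    (h : ∀ (r : ℕ) (w : G), r.Prime → Prim r w → w ∈ D → w ∈ K) : D ≤ K := fun _ hg =>
  mem_of_primary fun r w hr hw hwg => h r w hr hw (Subgroup.zpowers_le.2 hg hwg)

theorem exists_part {g : G} (hg : g ∉ Subgroup.center G) :
    ∃ (r : ℕ) (w : G), r.Prime ∧ Prim r w ∧ w ∈ Subgroup.zpowers g ∧ w ∉ Subgroup.center G := by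
  by_contra hno
  push Not at hno
  exact hg (mem_of_primary fun r w hr hw hwg => hno r w hr hw hwg)

theorem prime_ne_of_coprime {p r : ℕ} {v w : G} (hr : r.Prime) (hv : (orderOf v).Coprime p) (hw : Prim r w)
    (hwv : w ∈ Subgroup.zpowers v) (hw1 : w ∉ Subgroup.center G) : r ≠ p := by
  rintro rfl
  obtain ⟨k, rfl⟩ := Subgroup.mem_zpowers_iff.1 hwv
  exact hw1 (by rw [eq_one_of_prim_coprime hw (hv.coprime_dvd_left (orderOf_dvd_of_mem_zpowers hwv))]; exact one_mem _)

theorem cls_ne_one {x : G} (hx : x ∉ Subgroup.center G) : cls x ≠ 1 := fun e => hx (cls_eq_one_iff.1 e)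

theorem notMem_center_of_dvd {x y : G} (hx : x ∉ Subgroup.center G) (h : cls x ∣ cls y) :
    y ∉ Subgroup.center G := fun hy => cls_ne_one hx (Nat.dvd_one.1 (cls_eq_one_iff.2 hy ▸ h))

theorem cls_mul_of_comm {x v : G} (hv : v ∈ cent x) (ho : (orderOf x).Coprime (orderOf v)) :
    cent (x * v) = cent x ⊓ cent v :=
  cent_mul_of_coprime (mem_cent.1 hv).symm ho

theorem le_cent_iff {D : Subgroup G} {v : G} : D ≤ cent v ↔ v ∈ Subgroup.centralizer (D : Set G) :=
  ⟨fun h => Subgroup.mem_centralizer_iff.2 fun y hy => mem_cent.1 (h hy),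
    fun h _ hy => mem_cent.2 (Subgroup.mem_centralizer_iff.1 h _ hy)⟩

/-- Apart from any two primes a further prime occurs in `G` modulo the centre. -/
theorem exists_prime_ne (hns : ¬ Group.IsSolvable G) (p q : ℕ) :
    ∃ r : ℕ, r.Prime ∧ r ≠ p ∧ r ≠ q ∧ Has r (⊤ : Subgroup G) := by
  by_contra hno
  push Not at hno
  have key : ∀ r ∈ (Nat.card (G ⧸ Subgroup.center G)).primeFactors, r = p ∨ r = q := by
    intro r hr
    by_contra hne
    push Not at hne
    obtain ⟨hrp, hrd, -⟩ := Nat.mem_primeFactors.1 hr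
    haveI := Fact.mk hrp
    obtain ⟨R⟩ : Nonempty (Sylow r G) := inferInstance
    have hle : (R : Subgroup G) ≤ Subgroup.center G := fun x hx => by
      by_contra hxz
      exact hno r hrp hne.1 hne.2 ⟨x, Subgroup.mem_top x, prim_of_mem_sylow R hx, hxz⟩
    exact R.not_dvd_index (hrd.trans (Subgroup.index_dvd_of_le hle))
  obtain ⟨a, b, ha, hb, hab⟩ : ∃ a b : ℕ, a.Prime ∧ b.Prime ∧
      ∀ r ∈ (Nat.card (G ⧸ Subgroup.center G)).primeFactors, r = a ∨ r = b := by
    by_cases hp : p.Prime
    · by_cases hq : q.Prime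
      · exact ⟨p, q, hp, hq, key⟩
      · exact ⟨p, p, hp, hp, fun r hr => Or.inl ((key r hr).resolve_right fun e =>
          hq (e ▸ Nat.prime_of_mem_primeFactors hr))⟩
    · by_cases hq : q.Prime
      · exact ⟨q, q, hq, hq, fun r hr => Or.inr ((key r hr).resolve_left fun e =>
          hp (e ▸ Nat.prime_of_mem_primeFactors hr))⟩
      · exact ⟨2, 2, Nat.prime_two, Nat.prime_two, fun r hr => absurd (Nat.prime_of_mem_primeFactors hr)
          (fun h => (key r hr).elim (fun e => hp (e ▸ h)) (fun e => hq (e ▸ h)))⟩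
  exact hns (Solv.isSolvable_of_normal_quotient (Subgroup.center G)
    (isSolvable_of_comm fun x y => Subtype.ext (Subgroup.mem_center_iff.1 y.2 (x : G)))
    (isSolvable_of_two_primes ha hb _ rfl fun r hr hd =>
      hab r (Nat.mem_primeFactors.2 ⟨hr, hd, Nat.card_pos.ne'⟩)))

/-- Constant size on the noncentral elements of order prime to `p` gives solvability. -/
theorem solvable_of_uniform {p : ℕ} (hp : p.Prime) {n : ℕ}
    (hex : ∃ v : G, (orderOf v).Coprime p ∧ v ∉ Subgroup.center G)
    (h : ∀ v : G, v ∉ Subgroup.center G → (orderOf v).Coprime p → cls v = n) : Group.IsSolvable G := by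
  haveI := Fact.mk hp
  obtain ⟨v, hvp, hvz⟩ := hex
  have hn1 : n ≠ 1 := h v hvz hvp ▸ cls_ne_one hvz
  have hr : (Set.range fun x : {x : G // (orderOf x).Coprime p} => (ConjClasses.mk (x : G)).carrier.ncard) = {1, n} := by
    ext k
    simp only [Set.mem_range, Set.mem_insert_iff, Set.mem_singleton_iff, Solv.class_ncard]
    constructor
    · rintro ⟨x, rfl⟩
      by_cases hx : (x : G) ∈ Subgroup.center G
      · exact Or.inl (cls_eq_one_iff.2 hx)
      · exact Or.inr (h x hx x.2)
    · rintro (rfl | rfl)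
      · exact ⟨⟨1, by simp⟩, cls_eq_one_iff.2 (one_mem _)⟩
      · exact ⟨⟨v, hvp⟩, h v hvz hvp⟩
  rcases Solv.TwoSizeRegular.main hp (by rw [hr]; exact Set.ncard_pair hn1.symm) with
    ⟨H, hab, hpH, k, hk⟩ | ⟨q, _, P, Q, A, hqp, hA, hcard, hN, -, htop⟩
  · obtain ⟨P⟩ : Nonempty (Sylow p G) := inferInstance
    haveI := hab
    letI : CommGroup H := { (inferInstance : Group H) with mul_comm := hab.is_comm.comm }
    refine solvable_of_two (P : Subgroup G) H P.isPGroup'.isNilpotent CommGroup.isNilpotent ?_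
    rw [hk]
    exact Nat.Coprime.pow_right k ((hp.coprime_iff_not_dvd.2 P.not_dvd_index).symm)
  · set K := (P : Subgroup G) ⊔ (Q : Subgroup G) with hK
    haveI := hN
    have hP : (P : Subgroup G).relIndex K = Nat.card Q := by
      have e := Subgroup.relIndex_mul_relIndex ⊥ (P : Subgroup G) K bot_le le_sup_left
      rw [Subgroup.relIndex_bot_left, Subgroup.relIndex_bot_left, hcard] at e
      exact Nat.eq_of_mul_eq_mul_left Nat.card_pos e
    have hQ : (Q : Subgroup G).relIndex K = Nat.card P := by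
      have e := Subgroup.relIndex_mul_relIndex ⊥ (Q : Subgroup G) K bot_le le_sup_right
      rw [Subgroup.relIndex_bot_left, Subgroup.relIndex_bot_left, hcard, mul_comm (Nat.card P)] at e
      exact Nat.eq_of_mul_eq_mul_left Nat.card_pos e
    obtain ⟨i, hi⟩ := IsPGroup.iff_card.1 P.isPGroup'
    obtain ⟨j, hj⟩ := IsPGroup.iff_card.1 Q.isPGroup'
    have hsK := solvable_of_pair K (P : Subgroup G) Q P.isPGroup'.isNilpotent Q.isPGroup'.isNilpotent (by
      rw [hP, hQ, hi, hj]
      exact Nat.Coprime.pow j i ((Nat.coprime_primes Fact.out hp).2 hqp))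
    refine Solv.isSolvable_of_normal_quotient K hsK ?_
    have hcomm : ∀ a b : G ⧸ K, a * b = b * a := by
      have hmk : ∀ a : G ⧸ K, ∃ c ∈ A, QuotientGroup.mk' K c = a := fun a => by
        obtain ⟨g, rfl⟩ := QuotientGroup.mk'_surjective K a
        obtain ⟨k, hk, c, hc, rfl⟩ := Subgroup.mem_sup_of_normal_left.1 (htop ▸ Subgroup.mem_top g : g ∈ K ⊔ A)
        exact ⟨c, hc, by rw [map_mul, show QuotientGroup.mk' K k = 1 from (QuotientGroup.eq_one_iff k).2 hk, one_mul]⟩
      intro a b
      obtain ⟨c, hc, rfl⟩ := hmk a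
      obtain ⟨d, -, rfl⟩ := hmk b
      rw [← map_mul, ← map_mul, Subgroup.mem_center_iff.1 (hA hc) d]
    exact isSolvable_of_comm hcomm

end Cfsg.Agent.Char.ItoRank
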