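import Cfsg.Agent.Lib.Char.ItoRank.Norm

/-!
# Conjugate rank two: systems of equal centralizers

In a system every noncentral element of prime power order, for a prime of the system, has its centralizer
determined by each of its noncentral elements of such order.
-/

set_option autoImplicit false
set_option linter.style.haveILetI false
set_option linter.unusedSectionVars false

namespace Cfsg.Agent.Char.ItoRank

open Cfsg.Agent.Perm.CoprimeSizes Cfsg.Agent.Perm.CoprimeFour Cfsg.Agent.Char.ThreeIndex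

universe u

variable {G : Type u} [Group G] [Finite G]

/-- Commuting noncentral primary elements, for the primes in `S`, have equal centralizers. -/
def Sys (G : Type u) [Group G] (S : ℕ → Prop) : Prop :=
  ∀ ⦃r s : ℕ⦄ ⦃x y : G⦄, r.Prime → s.Prime → S r → S s → Prim r x → Prim s y → x ∉ Subgroup.center G →
    y ∉ Subgroup.center G → y ∈ cent x → cent y = cent x

theorem conj_notMem_center {x : G} (hx : x ∉ Subgroup.center G) (g : G) : g * x * g⁻¹ ∉ Subgroup.center G :=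
  fun h => hx (by simpa [mul_assoc] using Subgroup.Normal.conj_mem inferInstance _ h g⁻¹)

variable {S : ℕ → Prop}

theorem Sys.cent_part (hS : Sys G S) {v w : G} {r : ℕ} (hr : r.Prime) (hw : Prim r w)
    (hwv : w ∈ Subgroup.zpowers v) (hwz : w ∉ Subgroup.center G)
    (hparts : ∀ (r : ℕ) (w : G), r.Prime → Prim r w → w ∈ Subgroup.zpowers v → w ∉ Subgroup.center G → S r) :
    cent v = cent w := by
  refine le_antisymm (cent_le_of_mem_zpowers hwv) fun y hy => mem_cent_comm.1 ?_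
  refine mem_of_primary (K := cent y) fun t z ht hz hzv => ?_
  by_cases hzz : z ∈ Subgroup.center G
  · exact center_le_cent y hzz
  · have hzw : z ∈ cent w := cent_le_of_mem_zpowers hwv (mem_of_zpowers_mem (self_mem_cent v) hzv)
    exact mem_cent_comm.1 ((hS hr ht (hparts r w hr hw hwv hwz) (hparts t z ht hz hzv hzz) hw hz hwz hzz hzw).ge hy)

variable (hS : Sys G S) {r : ℕ} {x : G} (hr : r.Prime) (hrS : S r) (hx : Prim r x)
  (hxz : x ∉ Subgroup.center G)

include hS hr hrS hx hxz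

theorem Sys.qpart_mem {s : ℕ} [Fact s.Prime] (hs : S s) {y : G} (hy : y ∈ cent x) (hys : Prim s y)
    (hyz : y ∉ Subgroup.center G) : y ∈ qpart (cent x) s :=
  mem_qpart.2 ⟨mem_centPart.2 ⟨hy, fun _ hz =>
    mem_cent.1 ((hS hr Fact.out hrS hs hx hys hxz hyz hy).ge hz)⟩, hys⟩

theorem Sys.fp {s : ℕ} [Fact s.Prime] (hs : S s) : FP (cent x) s := fun v hv hvz =>
  (hS hr Fact.out hrS hs hx (mem_qpart.1 hv).2 hxz hvz (qpart_le hv)).le

theorem Sys.exists_witness {s : ℕ} [Fact s.Prime] (hs : S s) (hd : s ∣ cls x) (hH : Has s (cent x)) :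
    ∃ g ∈ Subgroup.normalizer (cent x : Set G), g ∉ cent x ∧ Prim s g := by
  obtain ⟨w, hw, hwp, hwz⟩ := hH
  obtain ⟨R, hwR⟩ := exists_sylow_of_prim (Prim.mk hw hwp)
  set R0 := (R : Subgroup (cent x)).map (cent x).subtype with hR0
  have hR0p : IsPGroup s R0 := R.isPGroup'.map _
  have hR0C : R0 ≤ cent x := Subgroup.map_subtype_le _
  obtain ⟨P, hP⟩ := hR0p.exists_le_sylow
  have hlt : R0.subgroupOf (P : Subgroup G) < ⊤ := by
    refine lt_top_iff_ne_top.2 fun e => ?_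
    have hPC : (P : Subgroup G) ≤ cent x := (Subgroup.subgroupOf_eq_top.1 e).trans hR0C
    exact P.not_dvd_index (hd.trans (Subgroup.index_dvd_of_le hPC))
  haveI : Group.IsNilpotent (P : Subgroup G) := P.isPGroup'.isNilpotent
  obtain ⟨⟨g, hgP⟩, hgN, hg⟩ :=
    SetLike.exists_of_lt (normalizerCondition_of_isNilpotent _ hlt)
  rw [Subgroup.mem_subgroupOf] at hg
  have hgR : ∀ a ∈ R0, g * a * g⁻¹ ∈ R0 := fun a ha => by
    have := (Subgroup.mem_normalizer_iff.1 hgN ⟨a, hP ha⟩).1 (Subgroup.mem_subgroupOf.2 ha)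
    exact Subgroup.mem_subgroupOf.1 this
  have hgs : Prim s g := prim_of_mem_sylow P hgP
  have hgC : g ∉ cent x := fun hc => hg (by
    have hle : (R : Subgroup (cent x)) ≤ ((P : Subgroup G).subgroupOf (cent x)) := fun a ha =>
      Subgroup.mem_subgroupOf.2 (hP ⟨a, ha, rfl⟩)
    have hp : IsPGroup s ((P : Subgroup G).subgroupOf (cent x)) :=
      P.isPGroup'.comap_of_injective _ (cent x).subtype_injective
    exact ⟨⟨g, hc⟩, (R.is_maximal' hp hle).le (Subgroup.mem_subgroupOf.2 hgP), rfl⟩)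
  have hw0 : w ∈ R0 := ⟨⟨w, hw⟩, hwR, rfl⟩
  have hC : cent w = cent x := hS hr Fact.out hrS hs hx hwp hxz hwz hw
  have hC' : cent (g * w * g⁻¹) = cent x :=
    hS hr Fact.out hrS hs hx (Prim.map Fact.out (MulAut.conj g).toMonoidHom hwp) hxz
      (conj_notMem_center hwz g) (hR0C (hgR w hw0))
  refine ⟨g, Subgroup.mem_normalizer_iff.2 fun a => ?_, hgC, hgs⟩
  rw [← hC]
  conv_rhs => rw [hC, ← hC', cent_conj_mem]
  rw [show g⁻¹ * (g * a * g⁻¹) * g = a by group]

/-- Of two primes meeting a centralizer one does not divide the class. -/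
theorem Sys.exists_full {s t : ℕ} (hsp : s.Prime) (htp : t.Prime) (hst : s ≠ t) (hs : S s) (ht : S t)
    (hHs : Has s (cent x)) (hHt : Has t (cent x)) : ¬ s ∣ cls x ∨ ¬ t ∣ cls x := by
  haveI := Fact.mk hsp
  haveI := Fact.mk htp
  by_contra hcon
  push Not at hcon
  obtain ⟨gs, hgs, hgsC, hgsp⟩ := hS.exists_witness hr hrS hx hxz hs hcon.1 hHs
  obtain ⟨gt, hgt, hgtC, hgtp⟩ := hS.exists_witness hr hrS hx hxz ht hcon.2 hHt
  obtain ⟨a, ha, hap, haz⟩ := hHs
  obtain ⟨b, hb, hbp, hbz⟩ := hHt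
  exact two_primes_false hst (hS.fp hr hrS hx hxz hs) (hS.fp hr hrS hx hxz ht)
    ⟨a, hS.qpart_mem hr hrS hx hxz hs ha hap haz, haz⟩ ⟨b, hS.qpart_mem hr hrS hx hxz ht hb hbp hbz, hbz⟩
    hgs hgsC hgsp hgt hgtC hgtp

/-- A full prime determines the centralizers meeting it up to conjugacy. -/
theorem Sys.cent_conj_of_has {r0 : ℕ} (hr0 : r0.Prime) (hr0S : S r0) (hfull : ¬ r0 ∣ cls x) {r' : ℕ} {x' : G}
    (hr' : r'.Prime) (hr'S : S r') (hx' : Prim r' x') (hx'z : x' ∉ Subgroup.center G)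
    (hH : Has r0 (cent x')) : ∃ g : G, cent x' = cent (g * x * g⁻¹) := by
  haveI := Fact.mk hr0
  obtain ⟨w, hw, hwp, hwz⟩ := hH
  obtain ⟨g, hg⟩ := exists_conj_comm hwp hfull
  have h1 : cent w = cent x' := hS hr' hr0 hr'S hr0S hx' hwp hx'z hwz hw
  have h2 : cent w = cent (g * x * g⁻¹) := hS hr hr0 hrS hr0S (Prim.map hr (MulAut.conj g).toMonoidHom hx) hwp
    (conj_notMem_center hxz g) hwz hg
  exact ⟨g, h1.symm.trans h2⟩

theorem Sys.cls_eq_of_has {r0 : ℕ} (hr0 : r0.Prime) (hr0S : S r0) (hfull : ¬ r0 ∣ cls x) {r' : ℕ} {x' : G}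
    (hr' : r'.Prime) (hr'S : S r') (hx' : Prim r' x') (hx'z : x' ∉ Subgroup.center G)
    (hH : Has r0 (cent x')) : cls x' = cls x := by
  obtain ⟨g, hg⟩ := hS.cent_conj_of_has hr hrS hx hxz hr0 hr0S hfull hr' hr'S hx' hx'z hH
  calc cls x' = cls (g * x * g⁻¹) := congrArg Subgroup.index hg
    _ = cls x := cls_conj x g

omit hS hr hrS hx hxz

/-- If every noncentral prime of the system meets every centralizer then the sizes agree. -/
theorem Sys.uniform (hS : Sys G S)
    (hall : ∀ ⦃r : ℕ⦄ ⦃x : G⦄, r.Prime → S r → Prim r x → x ∉ Subgroup.center G →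
      ∀ s : ℕ, s.Prime → S s → Has s (⊤ : Subgroup G) → Has s (cent x))
    {s t : ℕ} (hs : s.Prime) (ht : t.Prime) (hst : s ≠ t) (hsS : S s) (htS : S t)
    (hHs : Has s (⊤ : Subgroup G)) (hHt : Has t (⊤ : Subgroup G)) :
    ∃ n, ∀ ⦃r : ℕ⦄ ⦃x : G⦄, r.Prime → S r → Prim r x → x ∉ Subgroup.center G → cls x = n := by
  obtain ⟨u, -, hu, huz⟩ := id hHs
  refine ⟨cls u, fun r' x' hr' hr'S hx' hx'z => ?_⟩
  rcases hS.exists_full hs hsS hu huz hs ht hst hsS htS (hall hs hsS hu huz s hs hsS hHs)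
    (hall hs hsS hu huz t ht htS hHt) with h | h
  · exact hS.cls_eq_of_has hs hsS hu huz hs hsS h hr' hr'S hx' hx'z (hall hr' hr'S hx' hx'z s hs hsS hHs)
  · exact hS.cls_eq_of_has hs hsS hu huz ht htS h hr' hr'S hx' hx'z (hall hr' hr'S hx' hx'z t ht htS hHt)

end Cfsg.Agent.Char.ItoRank
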